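import Cfsg.Agent.SuzRankThree.Graph

/-!
# The symmetries of the standard graph

A symmetry fixing six points fixes everything, and the possible images of the six are few: the standard stabiliser has
index at most two in the stabiliser in the group of all symmetries.
-/

set_option autoImplicit false
set_option maxRecDepth 100000
set_option maxHeartbeats 1000000
set_option linter.style.haveILetI false
set_option Elab.async false

namespace CfsgLib.SuzRankThree

open MulAction

attribute [local irreducible] lineV lineIx lineT pointT linesOn pointsOn maskB rowBits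

/-- The symmetries fixing the first point. -/
def Aut0 : Subgroup (Equiv.Perm V) where
  carrier := {x | x 0 = 0 ∧ ∀ i j, AdjS (x i) (x j) ↔ AdjS i j}
  one_mem' := ⟨rfl, fun _ _ => Iff.rfl⟩
  mul_mem' := fun {x y} hx hy => ⟨by simp [hy.1, hx.1], fun i j => by simp [hx.2, hy.2]⟩
  inv_mem' := fun {x} hx => ⟨Equiv.Perm.inv_eq_iff_eq.mpr hx.1.symm,
    fun i j => by rw [← hx.2]; simp⟩

/-- All points, as bits. -/
def fullMask : ℕ := 2 ^ 1782 - 1

/-- The points outside a list with the pattern of a point on some rows. -/
def patMask (Fix : List ℕ) (F : List ℕ) (v : ℕ) : ℕ :=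
  F.foldl (fun m f => if (rowOf f).testBit v then m &&& rowOf f else m &&& (fullMask ^^^ rowOf f))
    (fullMask ^^^ maskOf Fix)

theorem testBit_full (i : ℕ) : fullMask.testBit i = decide (i < 1782) := Nat.testBit_two_pow_sub_one 1782 i

theorem testBit_patMask (F : List ℕ) (v w : ℕ) (hw : w < 1782) : ∀ m : ℕ,
    (F.foldl (fun m f => if (rowOf f).testBit v then m &&& rowOf f else m &&& (fullMask ^^^ rowOf f)) m).testBit w =
      (m.testBit w && F.all fun f => (rowOf f).testBit w == (rowOf f).testBit v) := by
  induction F with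
  | nil => simp
  | cons f F ih =>
    intro m
    rw [List.foldl_cons, ih, List.all_cons, ← Bool.and_assoc]
    congr 1
    cases hv : (rowOf f).testBit v
    · simp only [Bool.false_eq_true, if_false, Nat.testBit_and, Nat.testBit_xor, testBit_full, hw, decide_true]
      cases (rowOf f).testBit w <;> simp
    · simp only [if_true, Nat.testBit_and]
      cases (rowOf f).testBit w <;> simp

/-- A symmetry keeps the pattern on fixed points. -/
theorem mem_patMask {x : Equiv.Perm V} (hx : x ∈ Aut0) {Fix F : List ℕ} (hF : ∀ f ∈ F, f ∈ Fix)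
    (hrows : ∀ f ∈ F, f ∈ rowPts) (hlt : ∀ f ∈ Fix, f < 1782)
    (hfix : ∀ v : V, v.val ∈ Fix → x v = v) {b : V} (hb : b.val ∉ Fix) :
    (patMask Fix F b.val).testBit (x b).val = true := by
  rw [patMask, testBit_patMask F b.val _ (x b).isLt, Bool.and_eq_true, List.all_eq_true, Nat.testBit_xor, testBit_full,
    decide_eq_true (x b).isLt]
  refine ⟨?_, fun f hf => ?_⟩
  · have : (maskOf Fix).testBit (x b).val = false := by
      rw [Bool.eq_false_iff]
      intro hh
      rw [mem_of_maskOf] at hh
      have e := x.injective (hfix _ hh)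
      exact hb (e ▸ hh)
    rw [this]; rfl
  · rw [beq_iff_eq, Bool.eq_iff_iff]
    have hp : (⟨f, hlt f (hF f hf)⟩ : V).val ∈ rowPts := hrows f hf
    rw [← row_spec hp, ← row_spec hp]
    conv_lhs => rw [← hfix ⟨f, hlt f (hF f hf)⟩ (hF f hf)]
    exact hx.2 _ b

/-- The checks of the candidates. -/
def candOK : Bool :=
  (List.range 5).all fun i =>
    let Fix := basePts.take (i + 1)
    (Fix.all fun f => rowPts.contains f && decide (f < 1782)) && !Fix.contains (basePts.getD (i + 1) 0) &&
      patMask Fix Fix (basePts.getD (i + 1) 0) == maskOf (candL.getD i [])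

theorem cand_ok : candOK = true ∧ basePts.length = 6 ∧ basePts.getD 0 1 = 0 ∧ (basePts.all fun f => decide (f < 1782)) = true ∧
    (candL.getD 0 []).length * ((candL.getD 1 []).length * ((candL.getD 2 []).length * ((candL.getD 3 []).length *
      ((candL.getD 4 []).length * 1)))) < 3 * 251596800 := by decide +kernel

/-- The checks of the rounds. -/
def roundsOK : List (List ℕ) → List (List ℕ) → List ℕ → Bool
  | [], _, Fix => (List.range 1782).all (maskOf Fix).testBit
  | R :: Rs, F :: Fs, Fix =>
    (F.all fun f => rowPts.contains f && (maskOf Fix).testBit f) &&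
      (R.all fun v => decide (v < 1782) && !(maskOf Fix).testBit v && patMask Fix F v == 1 <<< v) &&
      roundsOK Rs Fs (R ++ Fix)
  | _ :: _, [], _ => false

theorem rounds_ok : roundsOK rounds roundPts basePts = true := by decide +kernel

theorem fixed_of_rounds {x : Equiv.Perm V} (hx : x ∈ Aut0) : ∀ (Rs Fs : List (List ℕ)) (Fix : List ℕ),
    (∀ v : V, v.val ∈ Fix → x v = v) → (∀ f ∈ Fix, f < 1782) → roundsOK Rs Fs Fix = true → x = 1
  | [], _, Fix, hF, _, h => Equiv.ext fun v => hF v (by
      simp only [roundsOK, List.all_eq_true, mem_of_maskOf] at h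
      exact h v.val (List.mem_range.mpr v.isLt))
  | _ :: _, [], _, _, _, h => by simp [roundsOK] at h
  | R :: Rs, F :: Fs, Fix, hF, hlt, h => by
    simp only [roundsOK, Bool.and_eq_true, List.all_eq_true, decide_eq_true_eq, Bool.not_eq_true', beq_iff_eq,
      List.contains_iff_mem, mem_of_maskOf] at h
    obtain ⟨⟨hFs, hR⟩, hrest⟩ := h
    refine fixed_of_rounds hx Rs Fs (R ++ Fix) ?_ ?_ hrest
    · intro v hv
      rcases List.mem_append.mp hv with hv | hv
      · obtain ⟨⟨-, hn⟩, hm⟩ := hR v.val hv
        have hn' : v.val ∉ Fix := fun hh => by rw [mem_of_maskOf.mpr hh] at hn; exact Bool.noConfusion hn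
        have := mem_patMask hx (fun f hf => (hFs f hf).2) (fun f hf => (hFs f hf).1) hlt hF hn'
        rw [hm, Nat.one_shiftLeft, Nat.testBit_two_pow, decide_eq_true_eq] at this
        exact Fin.ext this.symm
      · exact hF v hv
    · intro f hf
      rcases List.mem_append.mp hf with hf | hf
      exacts [(hR f hf).1.1, hlt f hf]

/-- A step down the chain of stabilisers. -/
theorem card_step (A : Subgroup (Equiv.Perm V)) (hA : A ≤ Aut0) (i : ℕ) (hi : i < 5)
    (hfix : ∀ x ∈ A, ∀ v : V, v.val ∈ basePts.take (i + 1) → x v = v) {m : ℕ}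
    (hm : Nat.card (A ⊓ stabilizer (Equiv.Perm V) (Fin.ofNat 1782 (basePts.getD (i + 1) 0)) :
      Subgroup (Equiv.Perm V)) ≤ m) : Nat.card A ≤ (candL.getD i []).length * m := by
  classical
  have h := List.all_eq_true.mp cand_ok.1 i (List.mem_range.mpr hi)
  simp only [Bool.and_eq_true, List.all_eq_true, List.contains_iff_mem, decide_eq_true_eq, Bool.not_eq_true',
    beq_iff_eq] at h
  obtain ⟨⟨hF, hnc⟩, hmask⟩ := h
  set b : V := Fin.ofNat 1782 (basePts.getD (i + 1) 0) with hb
  have hbv : b.val = basePts.getD (i + 1) 0 := by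
    have hlt := List.all_eq_true.mp cand_ok.2.2.2.1
    simp only [decide_eq_true_eq] at hlt
    have hl : i + 1 < basePts.length := by rw [cand_ok.2.1]; omega
    simp only [hb, Fin.val_ofNat]
    exact Nat.mod_eq_of_lt (hlt _ (by rw [List.getD_eq_getElem _ _ hl]; exact List.getElem_mem hl))
  rw [← (stabilizer A b).card_mul_index, index_stabilizer, mul_comm]
  refine Nat.mul_le_mul ?_ (le_trans (le_of_eq (Nat.card_congr ?_)) hm)
  · refine le_trans ?_ (List.toFinset_card_le _)
    rw [← Set.ncard_coe_finset, ← Set.ncard_image_of_injective (orbit A b) Fin.val_injective]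
    refine Set.ncard_le_ncard ?_
    rintro _ ⟨_, ⟨x, rfl⟩, rfl⟩
    simp only [List.coe_toFinset, Set.mem_ofPred_eq]
    rw [← mem_of_maskOf, ← hmask, ← hbv]
    refine mem_patMask (hA x.2) (fun f hf => hf) (fun f hf => (hF f hf).1) (fun f hf => (hF f hf).2) (hfix x x.2) ?_
    intro hh
    rw [hbv] at hh
    have : (List.take (i + 1) basePts).contains (basePts.getD (i + 1) 0) = true := List.contains_iff_mem.mpr hh
    rw [this] at hnc
    exact Bool.noConfusion hnc
  · exact
      { toFun := fun k => ⟨k.1.1, k.1.2, k.2⟩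
        invFun := fun k => ⟨⟨k.1, k.2.1⟩, k.2.2⟩
        left_inv := fun _ => rfl
        right_inv := fun _ => rfl }

/-- The point stabiliser of the symmetries is less than three times the standard one. -/
theorem card_Aut0 : Nat.card Aut0 < 3 * 251596800 := by
  let st : ℕ → Subgroup (Equiv.Perm V) := fun i => stabilizer (Equiv.Perm V) (Fin.ofNat 1782 (basePts.getD i 0))
  let A : ℕ → Subgroup (Equiv.Perm V) := Nat.rec Aut0 fun i S => S ⊓ st (i + 1)
  have hA : ∀ i, A i ≤ Aut0 := by
    intro i
    induction i with
    | zero => exact le_rfl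
    | succ i ih => exact inf_le_left.trans ih
  have hlt := List.all_eq_true.mp cand_ok.2.2.2.1
  simp only [decide_eq_true_eq] at hlt
  have hfix : ∀ i, i < 6 → ∀ x ∈ A i, ∀ v : V, v.val ∈ basePts.take (i + 1) → x v = v := by
    intro i hi
    induction i with
    | zero =>
      intro x hx v hv
      have h0 := cand_ok.2.2.1
      have hl : 0 < basePts.length := by rw [cand_ok.2.1]; norm_num
      rw [List.take_succ_eq_append_getElem hl, List.take_zero, List.nil_append, List.mem_singleton] at hv
      rw [List.getD_eq_getElem _ _ hl] at h0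
      have : v = 0 := Fin.ext (hv.trans h0)
      rw [this]
      exact hx.1
    | succ i ih =>
      intro x hx v hv
      have hl : i + 1 < basePts.length := by rw [cand_ok.2.1]; omega
      rw [List.take_succ_eq_append_getElem hl, List.mem_append, List.mem_singleton] at hv
      rcases hv with hv | hv
      · exact ih (by omega) x hx.1 v hv
      · have e : Fin.ofNat 1782 (basePts.getD (i + 1) 0) = v := Fin.ext (by
          simp only [Fin.val_ofNat, List.getD_eq_getElem _ _ hl, ← hv]
          exact Nat.mod_eq_of_lt v.isLt)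
        rw [← e]
        exact hx.2
  have h5 : Nat.card ↥(A 5) ≤ 1 := by
    refine le_of_eq ?_
    rw [Subgroup.card_eq_one, eq_bot_iff]
    intro x hx
    refine Subgroup.mem_bot.mpr (fixed_of_rounds (hA 5 hx) rounds roundPts basePts (fun v hv => hfix 5 (by norm_num) x hx v
      (by rw [List.take_of_length_le (by rw [cand_ok.2.1])]; exact hv)) hlt rounds_ok)
  have s := fun i (hi : i < 5) (m : ℕ) (hm : Nat.card ↥(A (i + 1)) ≤ m) =>
    card_step (A i) (hA i) i hi (hfix i (by omega)) (m := m) hm
  exact lt_of_le_of_lt (s 0 (by norm_num) _ (s 1 (by norm_num) _ (s 2 (by norm_num) _ (s 3 (by norm_num) _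
    (s 4 (by norm_num) _ h5))))) cand_ok.2.2.2.2

end CfsgLib.SuzRankThree
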