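import Cfsg.Agent.SuzRankThree.Label
import Cfsg.Agent.SuzRankThree.Bound
import Cfsg.Agent.Coset.G24.InSuz
import Cfsg.Agent.Chev.FieldFix

/-!
# A rank three group on 1782 points is the Suzuki group

In coordinates the group preserves the standard graph and has the standard point stabiliser, and the standard
stabiliser has index at most two in the stabiliser in the group of all symmetries.
-/

set_option autoImplicit false
set_option maxRecDepth 100000
set_option maxHeartbeats 1000000
set_option linter.style.haveILetI false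

namespace CfsgLib.SuzRankThree

open MulAction

attribute [local irreducible] lineV lineIx lineT pointT linesOn pointsOn maskB rowBits

/-- Isomorphic fields give isomorphic groups of type G₂. -/
theorem chevG2_congr {E F : Type} [Field E] [Fintype E] [Field F] [Fintype F] (f : E ≃+* F) :
    Nonempty (Cfsg.Lie.chevG2.group E ≃* Cfsg.Lie.chevG2.group F) := by
  let u : GL Cfsg.Lie.chevG2.Idx E →* GL Cfsg.Lie.chevG2.Idx F := CfsgLib.Chev.Tab.glMap Cfsg.Lie.chevG2 f.toRingHom
  let u' : GL Cfsg.Lie.chevG2.Idx F →* GL Cfsg.Lie.chevG2.Idx E :=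
    CfsgLib.Chev.Tab.glMap Cfsg.Lie.chevG2 f.symm.toRingHom
  have h1 : ∀ g, u' (u g) = g := fun g => Matrix.GeneralLinearGroup.ext fun i j => f.symm_apply_apply _
  have h2 : ∀ g, u (u' g) = g := fun g => Matrix.GeneralLinearGroup.ext fun i j => f.apply_symm_apply _
  exact ⟨MulEquiv.mk' ⟨fun g => ⟨u g, CfsgLib.Chev.good_G2.glMap_group f.toRingHom g.2⟩,
      fun g => ⟨u' g, CfsgLib.Chev.good_G2.glMap_group f.symm.toRingHom g.2⟩,
      fun g => Subtype.ext (h1 g), fun g => Subtype.ext (h2 g)⟩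
    fun g k => Subtype.ext (map_mul u (g : GL Cfsg.Lie.chevG2.Idx E) k)⟩

/-- The point stabiliser is the group of type G₂ over four elements. -/
theorem M0_equiv (F : Type) [Field F] [Fintype F] (hF : Fintype.card F = 4) :
    Nonempty (M0 ≃* Cfsg.Lie.chevG2.group F) := by
  obtain ⟨E⟩ := CfsgLib.Coset.G24.nonempty_in_Suz
  obtain ⟨C⟩ := chevG2_congr (FiniteField.ringEquivOfCardEq (K := CfsgLib.Coset.G24.F4) (K' := F)
    (by rw [CfsgLib.Coset.G24.F4.card_eq, hF]))
  exact ⟨(CfsgLib.Coset.Suz.H.equivMapOfInjective _ CfsgLib.Coset.Suz.card_and_injective.2).symm.trans (E.trans C)⟩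

theorem M0_le_Aut0 : M0 ≤ Aut0 := fun _ hm => ⟨M0_zero hm, adj_M (M0_le_M hm)⟩

theorem mul_inv_mem_M0 {x y : Equiv.Perm V} (hx : x ∈ Aut0) (hy : y ∈ Aut0) (hx' : x ∉ M0) (hy' : y ∉ M0) :
    x * y⁻¹ ∈ M0 := by
  let H : Subgroup Aut0 := M0.subgroupOf Aut0
  have hc : Nat.card H = 251596800 := by
    rw [Nat.card_congr (Subgroup.subgroupOfEquivOfLe M0_le_Aut0).toEquiv, card_M0]
  have h1 := H.card_mul_index
  have h2 := card_Aut0
  rw [hc] at h1
  have hpos : 0 < H.index := Nat.pos_of_ne_zero Subgroup.index_ne_zero_of_finite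
  have hne : H.index ≠ 1 := fun h => hx' (by
    have : (⟨x, hx⟩ : Aut0) ∈ H := by rw [Subgroup.index_eq_one.mp h]; exact Subgroup.mem_top _
    exact this)
  have h2' : H.index = 2 := by omega
  have := (Subgroup.mul_mem_iff_of_index_two h2' (a := (⟨x, hx⟩ : Aut0)) (b := ⟨y, hy⟩⁻¹)).mpr
    (iff_of_false hx' fun h => hy' (by simpa [H, Subgroup.mem_subgroupOf] using inv_mem h))
  exact this

variable {Ω : Type*} [Fintype Ω] [DecidableEq Ω] {G : Subgroup (Equiv.Perm Ω)} {a b c : Ω}

theorem card_group (h : Hyp G a b c) : Nat.card G = 448345497600 := by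
  obtain ⟨ψ⟩ := h.iso
  have ho : orbit G a = Set.univ := Set.eq_univ_of_forall fun y => by
    obtain ⟨g, hg, e⟩ := h.trans a y
    exact ⟨⟨g, hg⟩, e⟩
  rw [← (stabilizer G a).index_mul_card, index_stabilizer, ho, Set.ncard_univ, Nat.card_eq_fintype_card, h.card,
    ← Nat.card_congr ψ.toEquiv, card_M0]

/-- The recognition theorem. -/
theorem isSuz (h : Hyp G a b c) : Cfsg.Spor.IsoSuz G := by
  classical
  obtain ⟨P, hP⟩ := exists_act h
  obtain ⟨π, π0, hAdj, hlift⟩ := exists_coords h hP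
  let ψ : G →* Equiv.Perm V := (π.symm.permCongrHom.toMonoidHom).comp G.subtype
  have ψapp : ∀ (g : G) (v : V), ψ g v = π.symm ((g : Equiv.Perm Ω) (π v)) := fun g v => rfl
  have ψinj : Function.Injective ψ := π.symm.permCongrHom.injective.comp Subtype.val_injective
  have hauto : ∀ x ∈ ψ.range, ∀ i j, AdjS (x i) (x j) ↔ AdjS i j := by
    rintro x ⟨g, rfl⟩ i j
    rw [← hAdj, ← hAdj, ψapp, ψapp, Equiv.apply_symm_apply, Equiv.apply_symm_apply, rel_map_iff g.2]
  have hstab : ∀ x ∈ ψ.range, x 0 = 0 → x ∈ M0 := by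
    rintro x ⟨g, rfl⟩ h0
    have ga : (g : Equiv.Perm Ω) a = a := by
      rw [ψapp, Equiv.symm_apply_eq, π0] at h0
      exact h0
    obtain ⟨m, hm, e⟩ := hlift g g.2 ga
    have : ψ g = m := Equiv.ext fun v => by rw [ψapp, e, Equiv.symm_apply_apply]
    exact this ▸ hm
  have htr : ∀ i : V, ∃ x ∈ ψ.range, x 0 = i := fun i => by
    obtain ⟨g, hg, e⟩ := h.trans a (π i)
    exact ⟨ψ ⟨g, hg⟩, ⟨_, rfl⟩, by rw [ψapp, π0]; simp [e]⟩
  have hcard : Nat.card ψ.range = 448345497600 := by
    rw [← Nat.card_congr (MonoidHom.ofInjective ψinj).toEquiv, card_group h]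
  have hout : ∀ g k : Equiv.Perm V, g ∈ ψ.range → k ∈ ψ.range → g ∉ M → k ∉ M → g * k⁻¹ ∈ M := by
    intro g k hg hk hg' hk'
    have split : ∀ g : Equiv.Perm V, g ∈ ψ.range → g ∉ M → ∃ m ∈ M, m⁻¹ * g ∈ Aut0 ∧ m⁻¹ * g ∉ M0 := by
      intro g hg hg'
      obtain ⟨m, hm, e⟩ := M_transitive 0 (g 0)
      refine ⟨m, hm, ⟨?_, fun i j => ?_⟩, fun hx => hg' ?_⟩
      · rw [Equiv.Perm.mul_apply, ← e]; simp
      · rw [Equiv.Perm.mul_apply, Equiv.Perm.mul_apply, adj_M (inv_mem hm), hauto g hg]
      · simpa using mul_mem hm (M0_le_M hx)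
    obtain ⟨m, hm, hxA, hxM⟩ := split g hg hg'
    obtain ⟨n, hn, hyA, hyM⟩ := split k hk hk'
    have := mul_mem (mul_mem hm (M0_le_M (mul_inv_mem_M0 hxA hyA hxM hyM))) (inv_mem hn)
    simpa [mul_assoc] using this
  have hle : ψ.range ≤ M := by
    by_contra hnle
    obtain ⟨g0, hg0, hg0'⟩ := SetLike.not_le_iff_exists.mp hnle
    let K : Subgroup ψ.range := M.subgroupOf ψ.range
    have h2 : K.index = 2 := by
      refine Subgroup.index_eq_two_iff.mpr ⟨⟨g0, hg0⟩, fun x => ?_⟩
      by_cases hx : x ∈ K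
      · exact Or.inr ⟨hx, fun hxg => hg0' (by
          have := mul_mem (inv_mem (show (x : Equiv.Perm V) ∈ M from hx)) (show (x : Equiv.Perm V) * g0 ∈ M from hxg)
          simpa using this)⟩
      · exact Or.inl ⟨(by simpa using hout x g0⁻¹ x.2 (inv_mem hg0) hx (fun hh => hg0' (by simpa using inv_mem hh)) :
          (x : Equiv.Perm V) * g0 ∈ M), hx⟩
    set O : Set V := orbit K (0 : V) with hO
    have hKstab : stabilizer ψ.range (0 : V) ≤ K := fun x hx => M0_le_M (hstab x x.2 hx)
    have hSk : Nat.card (stabilizer K (0 : V)) = 251596800 := by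
      have e : Nat.card (stabilizer K (0 : V)) = Nat.card (stabilizer ψ.range (0 : V)) := Nat.card_congr
        { toFun := fun k => ⟨k.1.1, k.2⟩
          invFun := fun k => ⟨⟨k.1, hKstab k.2⟩, k.2⟩
          left_inv := fun _ => rfl
          right_inv := fun _ => rfl }
      have hs := (stabilizer ψ.range (0 : V)).card_mul_index
      rw [index_stabilizer, Set.eq_univ_of_forall (s := orbit ψ.range (0 : V)) fun i => by
        obtain ⟨x, hx, e⟩ := htr i
        exact ⟨⟨x, hx⟩, e⟩, Set.ncard_univ, Nat.card_fin, hcard] at hs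
      omega
    have hO891 : O.ncard = 891 := by
      have h1 := (stabilizer K (0 : V)).card_mul_index
      rw [index_stabilizer, ← hO, hSk] at h1
      have h3 := K.card_mul_index
      rw [h2, hcard] at h3
      omega
    have hOinv : ∀ m : ψ.range, (m : Equiv.Perm V) 0 = 0 → ∀ v ∈ O, (m : Equiv.Perm V) v ∈ O := by
      rintro m hm _ ⟨k, rfl⟩
      exact ⟨⟨m, hKstab hm⟩ * k, rfl⟩
    -- the standard stabiliser lies in the range
    have hM0 : ∀ x ∈ M0, x ∈ ψ.range := by
      intro x hx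
      have hle0 : (stabilizer ψ.range (0 : V)).map ψ.range.subtype ≤ M0 := by
        rintro _ ⟨y, hy, rfl⟩; exact hstab y y.2 hy
      have he : (stabilizer ψ.range (0 : V)).map ψ.range.subtype = M0 := Subgroup.eq_of_le_of_card_ge hle0 (by
        rw [card_M0, ← Nat.card_congr ((stabilizer ψ.range (0 : V)).equivMapOfInjective _ Subtype.val_injective).toEquiv]
        have hs := (stabilizer ψ.range (0 : V)).card_mul_index
        rw [index_stabilizer, Set.eq_univ_of_forall (s := orbit ψ.range (0 : V)) fun i => by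
          obtain ⟨z, hz, e⟩ := htr i
          exact ⟨⟨z, hz⟩, e⟩, Set.ncard_univ, Nat.card_fin, hcard] at hs
        omega)
      obtain ⟨y, -, rfl⟩ := he ▸ hx
      exact y.2
    have hall : ∀ v w : V, (∃ m ∈ M0, m v = w) → v ∈ O → w ∈ O := by
      rintro v w ⟨m, hm, rfl⟩ hv
      exact hOinv ⟨m, hM0 m hm⟩ (M0_zero hm) v hv
    have hnoC : ∀ w, InC w → w ∉ O := by
      intro w hw hwO
      have hsubC : {u | InC u} ⊆ O := fun u hu => by
        obtain ⟨i, rfl⟩ := exists_lineP hw
        obtain ⟨j, rfl⟩ := exists_lineP hu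
        obtain ⟨m, hm⟩ := lineGeo_props.trans i
        obtain ⟨n, hn⟩ := lineGeo_props.trans j
        refine hall _ _ ⟨n * (m : Equiv.Perm V)⁻¹, mul_mem n.2 (inv_mem m.2), ?_⟩ hwO
        have e1 : lineP i = (m : Equiv.Perm V) (lineP 0) := by rw [← lineP_actL]; exact congrArg lineP hm.symm
        have e2 : lineP j = (n : Equiv.Perm V) (lineP 0) := by rw [← lineP_actL]; exact congrArg lineP hn.symm
        rw [Equiv.Perm.mul_apply, e1, e2]; simp
      have := Set.ncard_le_ncard hsubC
      rw [show {v | InC v} = Set.range lineP from Set.ext fun v =>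
        ⟨fun hv => exists_lineP hv, fun ⟨i, e⟩ => e ▸ lineP_InC i⟩, Set.ncard_range_of_injective lineP_injective,
        Nat.card_fin] at this
      omega
    have hsub : O ⊆ insert 0 {w | InB w} := fun w hw => by
      rcases classify w with e | e | e
      exacts [Or.inl e, Or.inr e, absurd hw (hnoC w e)]
    have := (Set.ncard_le_ncard hsub).trans (Set.ncard_insert_le _ _)
    rw [card_InB] at this
    omega
  have heq : ψ.range = M := Subgroup.eq_of_le_of_card_ge hle (by rw [hcard, card_M])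
  obtain ⟨E⟩ := M_isSuz
  exact ⟨(MonoidHom.ofInjective ψinj).trans ((MulEquiv.subgroupCongr heq).trans E)⟩

end CfsgLib.SuzRankThree
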