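import Cfsg.Agent.Coset.Suz.Main

/-!
# The standard group on 1782 points

The image of the presented Suzuki group on the cosets of its first subgroup, with words acting through the coset table,
and small checkers for tabulated trees.
-/

set_option autoImplicit false
set_option maxRecDepth 100000
set_option maxHeartbeats 1000000
set_option linter.style.haveILetI false
set_option Elab.async false

namespace CfsgLib.SuzRankThree

open CfsgLib.Coset MulAction

attribute [local irreducible] Suz.Top.Tb

/-- The points. -/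
abbrev V : Type := Fin 1782

/-- A word acting on the number of a point, the first letter first. -/
noncomputable def app (w : List ℕ) (i : ℕ) : ℕ := follow (tget Suz.Top.Tb) i w

/-- The permutation of a word. -/
noncomputable def wperm (w : List ℕ) : Equiv.Perm V := (Suz.ρ (ev Suz.Lg w))⁻¹

/-- The letters of the words are generators. -/
def LettersOK (w : List ℕ) : Prop := ∀ l ∈ w, l < 7

instance (w : List ℕ) : Decidable (LettersOK w) := inferInstanceAs (Decidable (∀ l ∈ w, l < 7))

theorem wperm_apply {w : List ℕ} (hw : LettersOK w) (i : V) : (wperm w i).val = app w i.val :=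
  Suz.matches_ρ.follow_eq w i hw

theorem wperm_nil : wperm [] = 1 := by simp [wperm]

theorem wperm_append (u v : List ℕ) : wperm (u ++ v) = wperm v * wperm u := by
  simp [wperm, ev_append, mul_inv_rev]

theorem wperm_reverse : ∀ w : List ℕ, wperm w.reverse = (wperm w)⁻¹
  | [] => by simp [wperm]
  | l :: w => by
    have e : wperm [l] = (wperm [l])⁻¹ := by
      refine eq_inv_of_mul_eq_one_left ?_
      rw [wperm, ← mul_inv_rev, ← map_mul, ev_cons, ev_nil, mul_one, Suz.sq_all, map_one, inv_one]
    rw [List.reverse_cons, wperm_append, wperm_reverse w, e, ← mul_inv_rev, ← wperm_append, List.singleton_append]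

/-- The group. -/
noncomputable def M : Subgroup (Equiv.Perm V) := Suz.ρ.range

theorem wperm_mem_M (w : List ℕ) : wperm w ∈ M := inv_mem ⟨_, rfl⟩

theorem M_transitive (i j : V) : ∃ m ∈ M, m i = j := by
  obtain ⟨g, hg⟩ := Suz.transitive i
  obtain ⟨k, hk⟩ := Suz.transitive j
  exact ⟨Suz.ρ k * (Suz.ρ g)⁻¹, mul_mem ⟨_, rfl⟩ (inv_mem ⟨_, rfl⟩), by rw [Equiv.Perm.mul_apply, ← hg]; simpa using hk⟩

theorem card_M : Nat.card M = 448345497600 := by
  rw [← Suz.card_and_injective.1]
  exact (Nat.card_congr (MonoidHom.ofInjective Suz.card_and_injective.2).toEquiv).symm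

/-- The group is the Suzuki group. -/
theorem M_isSuz : Cfsg.Spor.IsoSuz M := ⟨(MonoidHom.ofInjective Suz.card_and_injective.2).symm⟩

/-- The stabiliser of the first point. -/
noncomputable def M0 : Subgroup (Equiv.Perm V) := Suz.H.map Suz.ρ

theorem M0_le_M : M0 ≤ M := Subgroup.map_le_range _ _

theorem M0_zero {m : Equiv.Perm V} (hm : m ∈ M0) : m 0 = 0 := by
  obtain ⟨g, hg, rfl⟩ := hm
  rw [Suz.index_and_eq.2] at hg
  exact hg

theorem mem_M0 {m : Equiv.Perm V} (hm : m ∈ M) (h0 : m 0 = 0) : m ∈ M0 := by
  obtain ⟨g, rfl⟩ := hm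
  exact ⟨g, Suz.index_and_eq.2 ▸ h0, rfl⟩

theorem card_M0 : Nat.card M0 = 251596800 := by
  have e : Nat.card M0 = Nat.card Suz.H :=
    (Nat.card_congr (Suz.H.equivMapOfInjective Suz.ρ Suz.card_and_injective.2).toEquiv).symm
  have h := Subgroup.card_mul_index Suz.H
  rw [Suz.index_and_eq.1, Suz.card_and_injective.1] at h
  omega

/-- The letters of the point stabiliser. -/
def LettersH (w : List ℕ) : Prop := ∀ l ∈ w, l < 6

instance (w : List ℕ) : Decidable (LettersH w) := inferInstanceAs (Decidable (∀ l ∈ w, l < 6))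

theorem LettersH.ok {w : List ℕ} (h : LettersH w) : LettersOK w := fun l hl => (h l hl).trans (by norm_num)

theorem wperm_mem : ∀ {w : List ℕ}, LettersH w → wperm w ∈ M0
  | [], _ => by rw [wperm_nil]; exact one_mem _
  | l :: w, h => by
    rw [← List.singleton_append, wperm_append]
    refine mul_mem (wperm_mem fun x hx => h x (List.mem_cons_of_mem _ hx)) ?_
    refine inv_mem (Subgroup.mem_map_of_mem _ (Subgroup.subset_closure ⟨[l], ?_, rfl⟩))
    have := h l (List.mem_cons_self ..)
    interval_cases l <;> decide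

/-- Induction on the point stabiliser through its six generators. -/
theorem M0_induction {p : Equiv.Perm V → Prop} (gen : ∀ l < 6, p (wperm [l])) (one : p 1)
    (mul : ∀ x y, p x → p y → p (x * y)) : ∀ m ∈ M0, p m := by
  have hS : ∀ x ∈ Subgroup.closure (Set.range fun l : Fin 6 => wperm [l.val]), p x := by
    intro x hx
    rw [← Subgroup.mem_toSubmonoid, Subgroup.closure_toSubmonoid_of_finite] at hx
    induction hx using Submonoid.closure_induction with
    | mem x hx => obtain ⟨l, rfl⟩ := hx; exact gen l.val l.isLt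
    | one => exact one
    | mul x y _ _ hx hy => exact mul x y hx hy
  intro m hm
  refine hS m ?_
  revert m
  show M0 ≤ _
  rw [M0, Suz.H, genW, MonoidHom.map_closure, Subgroup.closure_le]
  rintro _ ⟨_, ⟨w, hw, rfl⟩, rfl⟩
  have hw' : w ∈ [[0], [1], [2], [3], [4], [5]] := hw
  have : ∀ l : Fin 6, Suz.ρ (ev Suz.Lg [l.val]) ∈ Subgroup.closure (Set.range fun l : Fin 6 => wperm [l.val]) :=
    fun l => by
      rw [show Suz.ρ (ev Suz.Lg [l.val]) = (wperm [l.val])⁻¹ by simp [wperm]]
      exact inv_mem (Subgroup.subset_closure ⟨l, rfl⟩)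
  simp only [List.mem_cons, List.not_mem_nil, or_false] at hw'
  rcases hw' with rfl | rfl | rfl | rfl | rfl | rfl
  exacts [this 0, this 1, this 2, this 3, this 4, this 5]

/-- Only the identity fixes the base. -/
theorem base_trivial : baseStab Suz.ρ [(0 : V), 1, 2, 160] = ⊥ := by
  have := Suz.card_le.1
  have h4 : Nat.card (baseStab Suz.ρ [(0 : V), 1, 2, 160]) ≤ Nat.card (baseStab Suz.ρ [(0 : V), 1, 2, 160]) := le_rfl
  have h3 := orbit_step Suz.matches_ρ (base := [(0 : V), 1, 2]) (β := 160) (m := 180) (dm := 8)
    (gens := Suz.Orb.G3) (P := Suz.Orb.B3P) (Inv := Suz.Orb.B3Inv)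
    (by decide +kernel) (by decide +kernel) (by decide +kernel) h4
  have h2 := orbit_step Suz.matches_ρ (base := [(0 : V), 1]) (β := 2) (m := 1024) (dm := 10)
    (gens := Suz.Orb.G2) (P := Suz.Orb.B2P) (Inv := Suz.Orb.B2Inv)
    (by decide +kernel) (by decide +kernel) (by decide +kernel) h3
  have h1 := orbit_step Suz.matches_ρ (base := [(0 : V)]) (β := 1) (m := 1365) (dm := 11)
    (gens := Suz.Orb.G1) (P := Suz.Orb.B1P) (Inv := Suz.Orb.B1Inv)
    (by decide +kernel) (by decide +kernel) (by decide +kernel) h2
  have h0 := orbit_step Suz.matches_ρ (base := []) (β := 0) (m := 1782) (dm := 11)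
    (gens := Suz.Orb.G0) (P := Suz.Orb.B0P) (Inv := Suz.Orb.B0Inv)
    (by decide +kernel) (by decide +kernel) (by decide +kernel) h1
  have e : Nat.card (baseStab Suz.ρ ([] : List V)) = 448345497600 := by
    simp [baseStab, Suz.card_and_injective.1]
  rw [e] at h0
  have hp : 0 < Nat.card (baseStab Suz.ρ [(0 : V), 1, 2, 160]) := Nat.card_pos
  exact Subgroup.eq_bot_of_card_eq _ (by omega)

theorem eq_of_base {x y : Equiv.Perm V} (hx : x ∈ M) (hy : y ∈ M) (h0 : x 0 = y 0) (h1 : x 1 = y 1)
    (h2 : x 2 = y 2) (h3 : x 160 = y 160) : x = y := by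
  obtain ⟨g, rfl⟩ := hx
  obtain ⟨k, rfl⟩ := hy
  have : g⁻¹ * k ∈ baseStab Suz.ρ [(0 : V), 1, 2, 160] := by
    refine (mem_foldl_inf _ ⊤).mpr ⟨trivial, fun b hb => ?_⟩
    have hb' : Suz.ρ g b = Suz.ρ k b := by
      simp only [List.mem_cons, List.not_mem_nil, or_false] at hb
      rcases hb with rfl | rfl | rfl | rfl
      exacts [h0, h1, h2, h3]
    rw [mem_pstab, map_mul, Equiv.Perm.mul_apply, ← hb', map_inv]
    simp
  rw [base_trivial, Subgroup.mem_bot, inv_mul_eq_one] at this
  rw [this]

/-- Two words agree on the base. -/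
noncomputable def sameW (u v : List ℕ) : Bool :=
  [0, 1, 2, 160].all fun i => app u i == app v i

theorem wperm_congr {u v : List ℕ} (hu : LettersOK u) (hv : LettersOK v) (h : sameW u v = true) :
    wperm u = wperm v := by
  simp only [sameW, List.all_eq_true, beq_iff_eq] at h
  have key : ∀ i : V, i.val ∈ [0, 1, 2, 160] → wperm u i = wperm v i := fun i hi =>
    Fin.ext (by rw [wperm_apply hu, wperm_apply hv, h _ hi])
  exact eq_of_base (wperm_mem_M u) (wperm_mem_M v) (key 0 (by decide)) (key 1 (by decide)) (key 2 (by decide))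
    (key 160 (by decide))

/-- An entry of a packed table. -/
def getA (L : List ℕ) (i : ℕ) : ℕ := ((L.getD (i >>> 6) 0) >>> (24 * (i &&& 63))) &&& 16777215

/-- An entry of a tabulated tree. -/
def tent (L : List ℕ) (j c : ℕ) : ℕ := getA L (4 * j + c)

/-- The set of numbers in a list, as bits. -/
def maskOf (l : List ℕ) : ℕ := l.foldr (fun x m => m ||| (1 <<< x)) 0

theorem testBit_maskOf : ∀ (l : List ℕ) (i : ℕ), (maskOf l).testBit i = l.contains i
  | [], i => by simp [maskOf]
  | a :: l, i => by
    have ih := testBit_maskOf l i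
    simp only [maskOf, List.foldr_cons, Nat.testBit_or, List.contains_cons] at ih ⊢
    rw [ih, Nat.one_shiftLeft, Nat.testBit_two_pow, Bool.or_comm]
    congr 1
    simp [eq_comm, beq_eq_decide]

theorem mem_of_maskOf {l : List ℕ} {i : ℕ} : (maskOf l).testBit i = true ↔ i ∈ l := by
  rw [testBit_maskOf]; simp

/-- A tree sorted by its points in which each point comes from one of smaller rank by a generator. -/
noncomputable def treeOK (t : ℕ → ℕ → ℕ) (root n : ℕ) (gens : List (List ℕ)) (L : List ℕ) : Bool :=
  (List.range n).all fun j =>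
    ((tent L j 1 == 0 && tent L j 0 == root) ||
      (decide (tent L j 2 < n ∧ tent L (tent L j 2) 1 < tent L j 1) &&
        follow t (tent L (tent L j 2) 0) (gens.getD (tent L j 3) []) == tent L j 0)) &&
    (decide (j + 1 = n) || decide (tent L j 0 < tent L (j + 1) 0))

/-- The points of a tree. -/
def treePts (n : ℕ) (L : List ℕ) : List ℕ := (List.range n).map fun j => tent L j 0

section Tree

variable {t : ℕ → ℕ → ℕ} {root n : ℕ} {gens : List (List ℕ)} {L : List ℕ} (h : treeOK t root n gens L = true)

include h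

theorem tree_spec {R : ℕ → Prop} (hroot : R root) (hstep : ∀ w ∈ gens, ∀ i, R i → R (follow t i w)) :
    ∀ x ∈ treePts n L, R x := by
  have key : ∀ r j, j < n → tent L j 1 = r → R (tent L j 0) := by
    intro r
    induction r using Nat.strong_induction_on with
    | _ r ih =>
      intro j hj hr
      have hc := List.all_eq_true.mp h j (List.mem_range.mpr hj)
      simp only [Bool.and_eq_true, Bool.or_eq_true, beq_iff_eq, decide_eq_true_eq] at hc
      rcases hc.1 with ⟨-, e⟩ | ⟨⟨hp, hlt⟩, e⟩
      · rwa [e]
      · rw [← e]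
        have hR := ih _ (hr ▸ hlt) _ hp rfl
        by_cases hg : gens.getD (tent L j 3) [] ∈ gens
        · exact hstep _ hg _ hR
        · have : gens.getD (tent L j 3) [] = [] := by
            rcases lt_or_ge (tent L j 3) gens.length with hl | hl
            · exact absurd (by rw [List.getD_eq_getElem _ _ hl]; exact List.getElem_mem hl) hg
            · exact List.getD_eq_default _ _ hl
          rwa [this, follow_nil]
  intro x hx
  obtain ⟨j, hj, rfl⟩ := List.mem_map.mp hx
  exact key _ j (List.mem_range.mp hj) rfl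

theorem tree_mono {i j : ℕ} (hij : i < j) (hj : j < n) : tent L i 0 < tent L j 0 := by
  induction j, hij using Nat.le_induction with
  | base =>
    have hc := List.all_eq_true.mp h i (List.mem_range.mpr (by omega))
    simp only [Bool.and_eq_true, Bool.or_eq_true, decide_eq_true_eq] at hc
    exact hc.2.resolve_left (by omega)
  | succ j hle ih =>
    have hc := List.all_eq_true.mp h j (List.mem_range.mpr (by omega))
    simp only [Bool.and_eq_true, Bool.or_eq_true, decide_eq_true_eq] at hc
    exact (ih (by omega)).trans (hc.2.resolve_left (by omega))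

theorem tree_nodup : (treePts n L).Nodup := by
  refine List.Nodup.map_on ?_ List.nodup_range
  intro i hi j hj e
  rw [List.mem_range] at hi hj
  rcases lt_trichotomy i j with hlt | rfl | hlt
  · exact absurd e (tree_mono h hlt hj).ne
  · rfl
  · exact absurd e.symm (tree_mono h hlt hi).ne

end Tree

end CfsgLib.SuzRankThree
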