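import Cfsg.Agent.SuzRankThree.Basic
import Cfsg.Agent.SuzRankThree.DataGeo

/-!
# The hexagon on the second suborbit

The 1365 lines are the points of the second suborbit, the points are the pencils of five lines. Both carry an action of
the point stabiliser that preserves incidence.
-/

set_option autoImplicit false
set_option maxRecDepth 100000
set_option maxHeartbeats 1000000
set_option linter.style.haveILetI false
set_option Elab.async false

namespace CfsgLib.SuzRankThree

open CfsgLib.Coset

attribute [local irreducible] lineV lineIx lineT pointT linesOn pointsOn maskB Suz.Top.Tb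

/-- The index set of lines and of points. -/
abbrev I : Type := Fin 1365

/-- A number as an index. -/
def ix' (n : ℕ) : I := Fin.ofNat 1365 n

theorem ix'_val {n : ℕ} (h : n < 1365) : (ix' n).val = n := Nat.mod_eq_of_lt h

/-- The table of the generators on lines. -/
def ltab (i l : ℕ) : ℕ := getA lineT (6 * i + l)

/-- The table of the generators on points. -/
def ptab (i l : ℕ) : ℕ := getA pointT (6 * i + l)

/-- The lines on a point. -/
def linesAt (p : ℕ) : List ℕ := (List.range 5).map fun k => getA linesOn (5 * p + k)

/-- The points on a line. -/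
def pointsAt (i : ℕ) : List ℕ := (List.range 5).map fun k => getA pointsOn (5 * i + k)

/-- Membership in the first suborbit. -/
def InB (v : V) : Prop := maskB.testBit v.val = true

instance (v : V) : Decidable (InB v) := inferInstanceAs (Decidable (_ = true))

/-- Membership in the second suborbit. -/
def InC (v : V) : Prop := v ≠ 0 ∧ ¬ InB v

instance (v : V) : Decidable (InC v) := inferInstanceAs (Decidable (_ ∧ _))

theorem classify (v : V) : v = 0 ∨ InB v ∨ InC v := by
  by_cases h : v = 0
  · exact Or.inl h
  · by_cases h' : InB v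
    exacts [Or.inr (Or.inl h'), Or.inr (Or.inr ⟨h, h'⟩)]

theorem zero_notB : ¬ InB 0 := by decide +kernel

/-- A line as a point of the standard set. -/
def lineP (i : I) : V := Fin.ofNat 1782 (getA lineV i.val)

theorem lineV_ok : ((List.range 1365).all fun i =>
    decide (getA lineV i < 1782 ∧ getA lineV i ≠ 0) && !maskB.testBit (getA lineV i) &&
      getA lineIx (getA lineV i) == i) = true := by decide +kernel

theorem lineIx_ok : ((List.range 1782).all fun v =>
    v == 0 || maskB.testBit v || (decide (getA lineIx v < 1365) && getA lineV (getA lineIx v) == v)) = true := by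
  decide +kernel

theorem lineP_val (i : I) : (lineP i).val = getA lineV i.val := by
  have h := List.all_eq_true.mp lineV_ok i.val (List.mem_range.mpr i.isLt)
  simp only [Bool.and_eq_true, decide_eq_true_eq] at h
  exact Nat.mod_eq_of_lt h.1.1.1

theorem lineP_injective : Function.Injective lineP := by
  intro i j e
  have hi := List.all_eq_true.mp lineV_ok i.val (List.mem_range.mpr i.isLt)
  have hj := List.all_eq_true.mp lineV_ok j.val (List.mem_range.mpr j.isLt)
  simp only [Bool.and_eq_true, beq_iff_eq] at hi hj
  have e' := congrArg Fin.val e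
  rw [lineP_val, lineP_val] at e'
  exact Fin.ext (hi.2.symm.trans ((congrArg _ e').trans hj.2))

theorem lineP_InC (i : I) : InC (lineP i) := by
  have h := List.all_eq_true.mp lineV_ok i.val (List.mem_range.mpr i.isLt)
  simp only [Bool.and_eq_true, decide_eq_true_eq, Bool.not_eq_true'] at h
  refine ⟨fun e => h.1.1.2 ?_, fun e => ?_⟩
  · have := congrArg Fin.val e
    rwa [lineP_val] at this
  · unfold InB at e
    rw [lineP_val, h.1.2] at e
    exact Bool.false_ne_true e

theorem exists_lineP {v : V} (hv : InC v) : ∃ i, lineP i = v := by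
  have h := List.all_eq_true.mp lineIx_ok v.val (List.mem_range.mpr v.isLt)
  have hv0 : v.val ≠ 0 := fun e => hv.1 (Fin.ext e)
  simp only [Bool.or_eq_true, Bool.and_eq_true, decide_eq_true_eq, beq_iff_eq] at h
  rcases h with (h | h) | h
  · exact absurd h hv0
  · exact absurd h hv.2
  · refine ⟨⟨_, h.1⟩, Fin.ext ?_⟩
    rw [lineP_val]
    exact h.2

theorem maskB_gen : ((List.range 1782).all fun v => (List.range 6).all fun l =>
    maskB.testBit (app [l] v) == maskB.testBit v) = true := by decide +kernel

theorem inB_M0 {m : Equiv.Perm V} (hm : m ∈ M0) {v : V} : InB (m v) ↔ InB v := by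
  revert v
  refine M0_induction (p := fun m => ∀ {v}, InB (m v) ↔ InB v) ?_ (by simp) ?_ m hm
  · intro l hl v
    have h := List.all_eq_true.mp (List.all_eq_true.mp maskB_gen v.val (List.mem_range.mpr v.isLt)) l
      (List.mem_range.mpr hl)
    rw [beq_iff_eq] at h
    unfold InB
    rw [wperm_apply (fun x hx => by simp only [List.mem_singleton] at hx; omega), h]
  · intro x y hx hy v
    exact (hx (v := y v)).trans hy

theorem inC_M0 {m : Equiv.Perm V} (hm : m ∈ M0) {v : V} : InC (m v) ↔ InC v := by
  refine and_congr ?_ (not_congr (inB_M0 hm))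
  exact not_congr ⟨fun e => m.injective (e.trans (M0_zero hm).symm), fun e => by rw [e, M0_zero hm]⟩

/-! ### Actions on images -/

section Lift

variable {X : Type*} (φ : M0 →* Equiv.Perm X) (c : I → X) (hc : Function.Injective c)
  (hgen : ∀ m : M0, ∀ i, ∃ j, φ m (c i) = c j)

/-- The induced map. -/
noncomputable def liftFun (m : M0) (i : I) : I := (hgen m i).choose

theorem liftFun_spec (m : M0) (i : I) : φ m (c i) = c (liftFun φ c hgen m i) := (hgen m i).choose_spec

/-- The induced action. -/
noncomputable def lift : M0 →* Equiv.Perm I :=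
  MonoidHom.mk' (fun m => Equiv.ofBijective (liftFun φ c hgen m) (Finite.injective_iff_bijective.mp fun i j e =>
    hc ((φ m).injective (by rw [liftFun_spec φ c hgen m i, liftFun_spec φ c hgen m j, e]))))
    fun m n => Equiv.ext fun i => hc (by
      show c (liftFun φ c hgen (m * n) i) = c (liftFun φ c hgen m (liftFun φ c hgen n i))
      rw [← liftFun_spec φ c hgen (m * n) i, ← liftFun_spec φ c hgen m, ← liftFun_spec φ c hgen n i, map_mul,
        Equiv.Perm.mul_apply])

theorem lift_spec (m : M0) (i : I) : φ m (c i) = c (lift φ c hc hgen m i) := liftFun_spec φ c hgen m i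

end Lift

theorem ltab_ok : ((List.range 1365).all fun i => (List.range 6).all fun l =>
    decide (ltab i l < 1365) && app [l] (getA lineV i) == getA lineV (ltab i l)) = true := by decide +kernel

theorem lines_closed (m : M0) (i : I) : ∃ j, M0.subtype m (lineP i) = lineP j := by
  obtain ⟨j, hj⟩ := exists_lineP ((inC_M0 m.2).mpr (lineP_InC i))
  exact ⟨j, hj.symm⟩

/-- The action on lines. -/
noncomputable def actL : M0 →* Equiv.Perm I := lift M0.subtype lineP lineP_injective lines_closed

theorem lineP_actL (m : M0) (i : I) : lineP (actL m i) = (m : Equiv.Perm V) (lineP i) :=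
  (lift_spec M0.subtype lineP lineP_injective lines_closed m i).symm

/-- A generator. -/
noncomputable def gen (l : Fin 6) : M0 := ⟨wperm [l.val], wperm_mem (fun x hx => by
  simp only [List.mem_singleton] at hx; omega)⟩

theorem actL_gen (l : Fin 6) (i : I) : (actL (gen l) i).val = ltab i.val l.val := by
  have h := List.all_eq_true.mp (List.all_eq_true.mp ltab_ok i.val (List.mem_range.mpr i.isLt)) l.val
    (List.mem_range.mpr l.isLt)
  simp only [Bool.and_eq_true, decide_eq_true_eq, beq_iff_eq] at h
  have e : actL (gen l) i = ⟨_, h.1⟩ := lineP_injective (Fin.ext (by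
    rw [lineP_actL, lineP_val]
    show (wperm [l.val] (lineP i)).val = _
    rw [wperm_apply (fun x hx => by simp only [List.mem_singleton] at hx; omega), lineP_val]
    exact h.2))
  rw [e]

/-- A table follows an action. -/
theorem follow_act (act : M0 →* Equiv.Perm I) (t : ℕ → ℕ → ℕ) (ht : ∀ (l : Fin 6) i, (act (gen l) i).val = t i.val l.val) :
    ∀ {w : List ℕ} (hw : LettersH w) (i : I), (act ⟨wperm w, wperm_mem hw⟩ i).val = follow t i.val w
  | [], _, i => by
    rw [show (⟨wperm [], _⟩ : M0) = 1 from Subtype.ext wperm_nil, map_one]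
    rfl
  | l :: w, hw, i => by
    have hl : l < 6 := hw l (List.mem_cons_self ..)
    have hw' : LettersH w := fun x hx => hw x (List.mem_cons_of_mem _ hx)
    rw [show (⟨wperm (l :: w), wperm_mem hw⟩ : M0) = ⟨wperm w, wperm_mem hw'⟩ * gen ⟨l, hl⟩ from
      Subtype.ext (show wperm (l :: w) = wperm w * wperm [l] by rw [← wperm_append, List.singleton_append]), map_mul, Equiv.Perm.mul_apply,
      follow_act act t ht hw', ht ⟨l, hl⟩, follow_cons]

/-! ### Incidence -/

/-- Incidence of a line with a point. -/
def Inc (i p : I) : Prop := i.val ∈ linesAt p.val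

instance (i p : I) : Decidable (Inc i p) := inferInstanceAs (Decidable (_ ∈ _))

theorem linesAt_ok : ((List.range 1365).all fun p =>
    (linesAt p).all (fun i => decide (i < 1365) && (pointsAt i).contains p) && decide (linesAt p).Nodup &&
    ((pointsAt p).all fun q => decide (q < 1365) && (linesAt q).contains p) && decide (pointsAt p).Nodup) = true := by
  decide +kernel

theorem inc_iff {i p : I} : Inc i p ↔ p.val ∈ pointsAt i.val := by
  constructor
  · intro h
    have hp := List.all_eq_true.mp linesAt_ok p.val (List.mem_range.mpr p.isLt)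
    simp only [Bool.and_eq_true, List.all_eq_true, List.contains_iff_mem] at hp
    exact (hp.1.1.1 _ h).2
  · intro h
    have hi := List.all_eq_true.mp linesAt_ok i.val (List.mem_range.mpr i.isLt)
    simp only [Bool.and_eq_true, List.all_eq_true, List.contains_iff_mem] at hi
    exact (hi.1.2 _ h).2

/-- The lines of a point, as a set. -/
def pencil (p : I) : Finset I := (linesAt p.val).toFinset.image ix'

theorem mem_pencil {i p : I} : i ∈ pencil p ↔ Inc i p := by
  have hp := List.all_eq_true.mp linesAt_ok p.val (List.mem_range.mpr p.isLt)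
  simp only [Bool.and_eq_true, List.all_eq_true, decide_eq_true_eq] at hp
  constructor
  · intro h
    obtain ⟨x, hx, rfl⟩ := Finset.mem_image.mp h
    rw [List.mem_toFinset] at hx
    show (ix' x).val ∈ _
    rwa [ix'_val (hp.1.1.1 x hx).1]
  · exact fun h => Finset.mem_image.mpr ⟨i.val, List.mem_toFinset.mpr h, Fin.ext (ix'_val i.isLt)⟩

theorem card_pencil (p : I) : (pencil p).card = 5 := by
  have hp := List.all_eq_true.mp linesAt_ok p.val (List.mem_range.mpr p.isLt)
  simp only [Bool.and_eq_true, List.all_eq_true, decide_eq_true_eq] at hp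
  rw [pencil, Finset.card_image_of_injOn, List.toFinset_card_of_nodup hp.1.1.2]
  · simp [linesAt]
  · intro x hx y hy e
    rw [Finset.mem_coe, List.mem_toFinset] at hx hy
    have := congrArg Fin.val e
    rwa [ix'_val (hp.1.1.1 x hx).1, ix'_val (hp.1.1.1 y hy).1] at this

theorem pencils_ok : ((List.range 1364).all fun p =>
    ((linesAt p).zip (linesAt (p + 1))).foldr (fun x r => decide (x.1 < x.2) || (x.1 == x.2 && r)) false) = true := by
  decide +kernel

theorem pencils_sorted : ((List.range 1365).all fun p => decide ((linesAt p).Pairwise (· < ·))) = true := by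
  decide +kernel

theorem pencil_injective : Function.Injective pencil := by
  intro p q e
  have hiff : ∀ i, i ∈ linesAt p.val ↔ i ∈ linesAt q.val := by
    intro i
    constructor <;> intro hi
    all_goals
      have hlt : i < 1365 := by
        have hall := fun r : I => List.all_eq_true.mp linesAt_ok r.val (List.mem_range.mpr r.isLt)
        simp only [Bool.and_eq_true, List.all_eq_true, decide_eq_true_eq] at hall
        first
          | exact ((hall p).1.1.1 i hi).1
          | exact ((hall q).1.1.1 i hi).1
    · exact mem_pencil.mp (e ▸ mem_pencil.mpr (show Inc ⟨i, hlt⟩ p from hi))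
    · exact mem_pencil.mp (e ▸ mem_pencil.mpr (show Inc ⟨i, hlt⟩ q from hi))
  have hs := fun r : I => of_decide_eq_true (List.all_eq_true.mp pencils_sorted r.val (List.mem_range.mpr r.isLt))
  have heq : linesAt p.val = linesAt q.val :=
    List.Perm.eq_of_pairwise (fun a b _ _ h1 h2 => by omega) (hs p) (hs q)
      ((List.perm_ext_iff_of_nodup (hs p).nodup (hs q).nodup).mpr hiff)
  have key : ∀ j, j < 1365 → ∀ i, i < j →
      List.Lex (· < ·) (linesAt i) (linesAt j) := by
    intro j hj
    induction j with
    | zero => intro i hi; omega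
    | succ j ih =>
      intro i hi
      have h := List.all_eq_true.mp pencils_ok j (List.mem_range.mpr (by omega))
      have hstep : List.Lex (· < ·) (linesAt j) (linesAt (j + 1)) := by
        have aux : ∀ A B : List ℕ, A.length = B.length →
            (A.zip B).foldr (fun x r => decide (x.1 < x.2) || (x.1 == x.2 && r)) false = true → List.Lex (· < ·) A B := by
          intro A
          induction A with
          | nil => intro B hB h; simp at h
          | cons a A ihA =>
            intro B hB h
            cases B with
            | nil => simp at hB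
            | cons b B =>
              simp only [List.zip_cons_cons, List.foldr_cons, Bool.or_eq_true, Bool.and_eq_true, decide_eq_true_eq,
                beq_iff_eq] at h
              rcases h with h | ⟨rfl, h⟩
              · exact List.Lex.rel h
              · exact List.Lex.cons (ihA B (by simpa using hB) h)
        exact aux _ _ (by simp [linesAt]) h
      rcases Nat.lt_succ_iff_lt_or_eq.mp hi with hlt | rfl
      · exact List.lt_trans (ih (by omega) i hlt) hstep
      · exact hstep
  rcases lt_trichotomy p.val q.val with h | h | h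
  · have hh : linesAt p.val < linesAt q.val := key q.val q.isLt p.val h
    rw [heq] at hh
    exact absurd hh (List.lt_irrefl _)
  · exact Fin.ext h
  · have hh : linesAt q.val < linesAt p.val := key p.val p.isLt q.val h
    rw [heq] at hh
    exact absurd hh (List.lt_irrefl _)

/-- The action on sets of lines. -/
noncomputable def actSets : M0 →* Equiv.Perm (Finset I) :=
  MonoidHom.mk' (fun m => (actL m).finsetCongr) fun m n => Equiv.ext fun s => by
    simp [Equiv.finsetCongr_apply, map_mul, Finset.map_map, Function.Embedding.trans, Equiv.toEmbedding]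

theorem actSets_apply (m : M0) (s : Finset I) : actSets m s = s.map (actL m).toEmbedding := rfl

theorem ptab_ok : ((List.range 1365).all fun p => (List.range 6).all fun l =>
    decide (ptab p l < 1365) && (linesAt p).all fun i => (linesAt (ptab p l)).contains (ltab i l)) = true := by
  decide +kernel

theorem ptab_pencil (l : Fin 6) (p : I) :
    ∃ q : I, q.val = ptab p.val l.val ∧ actSets (gen l) (pencil p) = pencil q := by
  have h := List.all_eq_true.mp (List.all_eq_true.mp ptab_ok p.val (List.mem_range.mpr p.isLt)) l.val
    (List.mem_range.mpr l.isLt)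
  simp only [Bool.and_eq_true, decide_eq_true_eq, List.all_eq_true, List.contains_iff_mem] at h
  refine ⟨⟨_, h.1⟩, rfl, Finset.eq_of_subset_of_card_le ?_ ?_⟩
  · intro i hi
    rw [actSets_apply, Finset.mem_map] at hi
    obtain ⟨j, hj, rfl⟩ := hi
    rw [mem_pencil] at hj ⊢
    show ((actL (gen l)) j).val ∈ _
    rw [actL_gen]
    exact h.2 _ hj
  · rw [actSets_apply, Finset.card_map, card_pencil, card_pencil]

theorem pencils_closed (m : M0) (p : I) : ∃ q, actSets m (pencil p) = pencil q := by
  obtain ⟨m, hm⟩ := m
  have key : ∀ x ∈ M0, ∀ hx : x ∈ M0, ∀ p : I, ∃ q, actSets ⟨x, hx⟩ (pencil p) = pencil q := by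
    intro x hx
    have : x ∈ M0 ∧ ∀ hx : x ∈ M0, ∀ p : I, ∃ q, actSets ⟨x, hx⟩ (pencil p) = pencil q := by
      refine M0_induction (p := fun x => x ∈ M0 ∧ ∀ hx : x ∈ M0, ∀ p : I, ∃ q, actSets ⟨x, hx⟩ (pencil p) = pencil q)
        (fun l hl => ⟨(gen ⟨l, hl⟩).2, fun _ p => (ptab_pencil ⟨l, hl⟩ p).imp fun _ h => h.2⟩)
        ⟨one_mem _, fun hx p => ⟨p, by rw [show (⟨1, hx⟩ : M0) = 1 from rfl, map_one]; rfl⟩⟩ ?_ x hx
      rintro x y ⟨hx, hx'⟩ ⟨hy, hy'⟩
      refine ⟨mul_mem hx hy, fun h p => ?_⟩
      obtain ⟨q, hq⟩ := hy' hy p
      obtain ⟨r, hr⟩ := hx' hx q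
      exact ⟨r, by rw [show (⟨x * y, h⟩ : M0) = ⟨x, hx⟩ * ⟨y, hy⟩ from rfl, map_mul, Equiv.Perm.mul_apply, hq, hr]⟩
    exact this.2
  exact key m hm hm p

/-- The action on points. -/
noncomputable def actP : M0 →* Equiv.Perm I := lift actSets pencil pencil_injective pencils_closed

theorem pencil_actP (m : M0) (p : I) : (pencil p).map (actL m).toEmbedding = pencil (actP m p) :=
  lift_spec actSets pencil pencil_injective pencils_closed m p

theorem actP_gen (l : Fin 6) (p : I) : (actP (gen l) p).val = ptab p.val l.val := by
  obtain ⟨q, hq, hq'⟩ := ptab_pencil l p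
  have : actP (gen l) p = q := pencil_injective ((pencil_actP (gen l) p).symm.trans hq')
  rw [this, hq]

theorem inc_act (m : M0) {i p : I} : Inc (actL m i) (actP m p) ↔ Inc i p := by
  rw [← mem_pencil, ← mem_pencil, ← pencil_actP, ← Equiv.toEmbedding_apply, Finset.mem_map']

theorem follow_line {w : List ℕ} (hw : LettersH w) (i : I) :
    (actL ⟨wperm w, wperm_mem hw⟩ i).val = follow ltab i.val w := follow_act actL ltab actL_gen hw i

theorem follow_point {w : List ℕ} (hw : LettersH w) (i : I) :
    (actP ⟨wperm w, wperm_mem hw⟩ i).val = follow ptab i.val w := follow_act actP ptab actP_gen hw i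

end CfsgLib.SuzRankThree
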