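import Cfsg.Agent.SuzRankThree.Search

/-!
# The standard graph

Two points are adjacent when an element of the group carries them to the first point and a point of the first
suborbit. The rows of finitely many points are stored.
-/

set_option autoImplicit false
set_option maxRecDepth 100000
set_option maxHeartbeats 1000000
set_option linter.style.haveILetI false
set_option Elab.async false

namespace CfsgLib.SuzRankThree

open CfsgLib.Coset

attribute [local irreducible] lineV lineIx lineT pointT linesOn pointsOn maskB Suz.Top.Tb rowBits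

/-- Adjacency. -/
def AdjS (i j : V) : Prop := ∃ m ∈ M, m 0 = i ∧ InB (m⁻¹ j)

theorem adj_iff {m : Equiv.Perm V} (hm : m ∈ M) {i j : V} (h : m 0 = i) : AdjS i j ↔ InB (m⁻¹ j) := by
  refine ⟨?_, fun hB => ⟨m, hm, h, hB⟩⟩
  rintro ⟨n, hn, hn0, hB⟩
  have hk : m⁻¹ * n ∈ M0 := mem_M0 (mul_mem (inv_mem hm) hn) (by
    rw [Equiv.Perm.mul_apply, hn0, ← h]; simp)
  have := (inB_M0 hk).mpr hB
  simpa using this

theorem adj_zero (j : V) : AdjS 0 j ↔ InB j := by
  rw [adj_iff (one_mem M) (i := 0) (by simp)]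
  simp

theorem adj_M {m : Equiv.Perm V} (hm : m ∈ M) (i j : V) : AdjS (m i) (m j) ↔ AdjS i j := by
  obtain ⟨n, hn, e⟩ := M_transitive 0 i
  rw [adj_iff hn e, adj_iff (mul_mem hm hn) (by rw [Equiv.Perm.mul_apply, e])]
  simp [mul_inv_rev]

theorem listB_ok : maskOf listB = maskB ∧ listB.length = 416 ∧ listB.Pairwise (· < ·) ∧ (∀ x ∈ listB, x < 1782) := by
  decide +kernel

theorem inB_iff (v : V) : InB v ↔ v.val ∈ listB := by
  unfold InB
  rw [← listB_ok.1, mem_of_maskOf]

theorem card_InB : {v | InB v}.ncard = 416 := by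
  classical
  rw [← listB_ok.2.1, ← List.toFinset_card_of_nodup (l := listB) listB_ok.2.2.1.nodup, ← Set.ncard_coe_finset,
    ← Set.ncard_image_of_injective _ Fin.val_injective]
  congr 1
  ext x
  simp only [Set.mem_image, Set.mem_ofPred_eq, List.coe_toFinset, inB_iff]
  exact ⟨fun ⟨i, hi, e⟩ => e ▸ hi, fun hx => ⟨⟨x, listB_ok.2.2.2 x hx⟩, hx, rfl⟩⟩

theorem inB47 : InB 47 := by decide +kernel

theorem trans_B {v : V} (hv : InB v) : ∃ m ∈ M0, m 47 = v := by
  classical
  have h := orbits_ncard Suz.matches_ρ Suz.orbits_ok Suz.subs_letters (c := ⟨47, 416, Suz.Orb.A1P, Suz.Orb.A1Inv⟩)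
    (by simp [Suz.Orb.certs]) (47 : V) rfl
  have hsub : orb Suz.ρ Suz.H 47 ⊆ {v | InB v} := by
    rintro _ ⟨g, hg, rfl⟩
    exact (inB_M0 (Subgroup.mem_map_of_mem _ hg)).mpr inB47
  have e := Set.eq_of_subset_of_ncard_le hsub (by rw [card_InB]; exact le_of_eq h.symm)
  obtain ⟨g, hg, e'⟩ := (e ▸ hv : v ∈ orb Suz.ρ Suz.H 47)
  exact ⟨_, Subgroup.mem_map_of_mem _ hg, e'⟩

theorem word47_ok : LettersOK word47 ∧ app word47 0 = 47 ∧ maskB.testBit (app word47.reverse 0) = true := by
  decide +kernel

theorem adj_symm {i j : V} (h : AdjS i j) : AdjS j i := by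
  obtain ⟨m, hm, rfl, hB⟩ := h
  obtain ⟨n, hn, e⟩ := trans_B hB
  have hw := wperm_mem_M word47
  have e47 : wperm word47 0 = 47 := Fin.ext (by rw [wperm_apply word47_ok.1]; exact word47_ok.2.1)
  have hj : j = (m * n) 47 := by rw [Equiv.Perm.mul_apply, e]; simp
  have hi : m 0 = (m * n) 0 := by rw [Equiv.Perm.mul_apply, M0_zero hn]
  rw [hj, hi, adj_M (mul_mem hm (M0_le_M hn)), adj_iff hw e47, ← wperm_reverse]
  unfold InB
  rw [wperm_apply (fun l hl => word47_ok.1 l (List.mem_reverse.mp hl))]
  exact word47_ok.2.2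

theorem adj_comm (i j : V) : AdjS i j ↔ AdjS j i := ⟨adj_symm, adj_symm⟩

theorem not_adj_self (i : V) : ¬ AdjS i i := by
  obtain ⟨m, hm, rfl⟩ := M_transitive 0 i
  rw [adj_M hm, adj_zero]
  exact zero_notB

/-- A stored row. -/
def rowOf (p : ℕ) : ℕ := rowBits.getD (rowPts.idxOf p) 0

theorem rows_ok : ((List.range rowPts.length).all fun k =>
    decide (LettersOK (rowWords.getD k [])) && app (rowWords.getD k []) 0 == rowPts.getD k 0 &&
      maskOf (listB.map (app (rowWords.getD k []))) == rowBits.getD k 0) = true := by decide +kernel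

theorem row_spec {p : V} (hp : p.val ∈ rowPts) (j : V) : AdjS p j ↔ (rowOf p.val).testBit j.val = true := by
  have hk : rowPts.idxOf p.val < rowPts.length := List.idxOf_lt_length_iff.mpr hp
  have h := List.all_eq_true.mp rows_ok _ (List.mem_range.mpr hk)
  simp only [Bool.and_eq_true, decide_eq_true_eq, beq_iff_eq] at h
  obtain ⟨⟨hl, h0⟩, hmask⟩ := h
  set w := rowWords.getD (rowPts.idxOf p.val) []
  have e0 : wperm w 0 = p := Fin.ext (by
    rw [wperm_apply hl, show (0 : V).val = 0 from rfl, h0, List.getD_eq_getElem _ _ hk, List.getElem_idxOf hk])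
  rw [adj_iff (wperm_mem_M w) e0, rowOf, ← hmask, mem_of_maskOf, List.mem_map, inB_iff]
  constructor
  · intro h
    exact ⟨_, h, by rw [← wperm_apply hl]; simp⟩
  · rintro ⟨x, hx, e⟩
    have : (wperm w)⁻¹ j = ⟨x, listB_ok.2.2.2 x hx⟩ := Equiv.Perm.inv_eq_iff_eq.mpr (Fin.ext (by rw [wperm_apply hl, e]))
    rw [this]; exact hx

theorem first_line : (lineP 0).val = 1 ∧ (1 : ℕ) ∈ rowPts ∧ ((List.range 1365).all fun j =>
    (rowOf 1).testBit (getA lineV j) == (maskOf (lineGeo.twoL 0)).testBit j) = true := by decide +kernel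

/-- Two lines are adjacent exactly when they are at distance two. -/
theorem two_adj (i j : I) : lineGeo.Two i j ↔ AdjS (lineP i) (lineP j) := by
  obtain ⟨m, rfl⟩ := lineGeo_props.trans i
  obtain ⟨j, rfl⟩ := (lineGeo.act m).surjective j
  rw [lineGeo.two_act, show lineP (lineGeo.act m 0) = (m : Equiv.Perm V) (lineP 0) from lineP_actL m 0,
    show lineP (lineGeo.act m j) = (m : Equiv.Perm V) (lineP j) from lineP_actL m j, adj_M (M0_le_M m.2),
    row_spec (by rw [first_line.1]; exact first_line.2.1), first_line.1, lineP_val]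
  have h := List.all_eq_true.mp first_line.2.2 j.val (List.mem_range.mpr j.isLt)
  rw [beq_iff_eq] at h
  rw [h, Geo.two_iff, mem_of_maskOf]
  rfl

/-- The special point of the first suborbit. -/
def x0 : V := 995

theorem x0_ok : InB x0 ∧ x0.val ∈ rowPts ∧ (stabW.all fun w => decide (LettersH w) && app w 995 == 995) = true ∧
    ((List.range 1365).all fun j => (rowOf 995).testBit (getA lineV j) == specialBits.testBit j) = true := by
  decide +kernel

theorem special_iff (i : I) : AdjS (lineP i) x0 ↔ specialBits.testBit i.val = true := by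
  rw [adj_comm, row_spec x0_ok.2.1, lineP_val]
  have h := List.all_eq_true.mp x0_ok.2.2.2 i.val (List.mem_range.mpr i.isLt)
  rw [beq_iff_eq] at h
  rw [← h]
  rfl

theorem stabTrees_ok : treeOK (tget Suz.Top.Tb) (tent stabNearTree 0 0) 100 stabW stabNearTree = true ∧
    treeOK (tget Suz.Top.Tb) (tent stabFarTree 0 0) 315 stabW stabFarTree = true ∧
    maskOf (treePts 100 stabNearTree) = maskB &&& rowOf 995 ∧
    (listB.all fun v => v == 995 || (maskB &&& rowOf 995).testBit v || (maskOf (treePts 315 stabFarTree)).testBit v) =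
      true := by
  decide +kernel

/-- An element of the stabiliser of the special point moves one neighbour to any other, and likewise the others. -/
theorem stab_trans {v w : V} (hv : InB v) (hw : InB w) (hv0 : v ≠ x0) (hw0 : w ≠ x0) (h : AdjS x0 v ↔ AdjS x0 w) :
    ∃ m ∈ M0, m x0 = x0 ∧ m v = w := by
  obtain ⟨t1, t2, hn, hf⟩ := stabTrees_ok
  have hst := x0_ok.2.2.1
  simp only [List.all_eq_true, Bool.and_eq_true, decide_eq_true_eq, beq_iff_eq] at hst
  have key : ∀ (n : ℕ) (L : List ℕ), treeOK (tget Suz.Top.Tb) (tent L 0 0) n stabW L = true →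
      ∀ x : V, x.val ∈ treePts n L → ∃ m ∈ M0, m x0 = x0 ∧ (m⁻¹ x).val = tent L 0 0 := by
    intro n L hL x hx
    obtain ⟨m, hm, hm0, r, hr, e⟩ := tree_spec (R := fun i => ∃ m ∈ M0, m x0 = x0 ∧
      ∃ r : V, r.val = tent L 0 0 ∧ (m r).val = i) hL (by
        have : tent L 0 0 < 1782 := by
          by_contra hge
          have hn : 0 < n := by
            by_contra h0
            simp [treePts, Nat.le_zero.mp (Nat.le_of_not_lt h0)] at hx
          obtain ⟨j, hj, hj'⟩ := List.mem_map.mp hx
          rw [List.mem_range] at hj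
          rcases Nat.eq_zero_or_pos j with rfl | hjp
          · have := x.isLt; omega
          · have := tree_mono hL hjp hj
            have := x.isLt; omega
        exact ⟨1, one_mem _, rfl, ⟨_, this⟩, rfl, rfl⟩) (by
        rintro w hw i ⟨m, hm, hm0, r, hr, rfl⟩
        refine ⟨wperm w * m, mul_mem (wperm_mem (hst w hw).1) hm, ?_, r, hr, ?_⟩
        · rw [Equiv.Perm.mul_apply, hm0]
          exact Fin.ext (by rw [wperm_apply (hst w hw).1.ok]; exact (hst w hw).2)
        · rw [Equiv.Perm.mul_apply, wperm_apply (hst w hw).1.ok]; rfl) _ hx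
    refine ⟨m, hm, hm0, ?_⟩
    rw [show m⁻¹ x = r from Equiv.Perm.inv_eq_iff_eq.mpr (Fin.ext e.symm), hr]
  have classN : ∀ u : V, InB u → AdjS x0 u → u.val ∈ treePts 100 stabNearTree := by
    intro u hu ha
    rw [← mem_of_maskOf, hn, Nat.testBit_and, Bool.and_eq_true]
    exact ⟨hu, (row_spec x0_ok.2.1 u).mp ha⟩
  have classF : ∀ u : V, InB u → u ≠ x0 → ¬ AdjS x0 u → u.val ∈ treePts 315 stabFarTree := by
    intro u hu hne ha
    have := List.all_eq_true.mp hf u.val ((inB_iff u).mp hu)
    simp only [Bool.or_eq_true, beq_iff_eq, mem_of_maskOf, Nat.testBit_and, Bool.and_eq_true] at this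
    rcases this with (e | e) | e
    · exact absurd (Fin.ext e : u = x0) hne
    · exact absurd ((row_spec x0_ok.2.1 u).mpr e.2) ha
    · exact e
  have both : ∀ (n : ℕ) (L : List ℕ), treeOK (tget Suz.Top.Tb) (tent L 0 0) n stabW L = true →
      v.val ∈ treePts n L → w.val ∈ treePts n L → ∃ m ∈ M0, m x0 = x0 ∧ m v = w := by
    intro n L hL h1 h2
    obtain ⟨m, hm, hm0, e⟩ := key n L hL v h1
    obtain ⟨m', hm', hm0', e'⟩ := key n L hL w h2
    refine ⟨m' * m⁻¹, mul_mem hm' (inv_mem hm), ?_, ?_⟩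
    · rw [Equiv.Perm.mul_apply, Equiv.Perm.inv_eq_iff_eq.mpr hm0.symm, hm0']
    · have : m⁻¹ v = m'⁻¹ w := Fin.ext (e.trans e'.symm)
      rw [Equiv.Perm.mul_apply, this]; simp
  by_cases ha : AdjS x0 v
  · exact both 100 _ t1 (classN v hv ha) (classN w hw (h.mp ha))
  · exact both 315 _ t2 (classF v hv hv0 ha) (classF w hw hw0 fun hb => ha (h.mpr hb))

theorem card_near_x0 : {v | InB v ∧ AdjS x0 v}.ncard = 100 := by
  classical
  obtain ⟨t1, -, hn, -⟩ := stabTrees_ok
  have e : (fun v : V => v.val) '' {v | InB v ∧ AdjS x0 v} = ↑(treePts 100 stabNearTree).toFinset := by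
    ext x
    simp only [Set.mem_image, Set.mem_ofPred_eq, List.coe_toFinset]
    rw [← mem_of_maskOf, hn, Nat.testBit_and, Bool.and_eq_true]
    constructor
    · rintro ⟨v, ⟨h1, h2⟩, rfl⟩
      exact ⟨h1, (row_spec x0_ok.2.1 v).mp h2⟩
    · rintro ⟨h1, h2⟩
      have hm : x ∈ listB := mem_of_maskOf.mp (listB_ok.1 ▸ h1)
      exact ⟨⟨x, listB_ok.2.2.2 x hm⟩, ⟨h1, (row_spec x0_ok.2.1 _).mpr h2⟩, rfl⟩
  rw [← Set.ncard_image_of_injective _ Fin.val_injective, e, Set.ncard_coe_finset,
    List.toFinset_card_of_nodup (tree_nodup t1)]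
  simp [treePts]

theorem keys_ok : (keyPts.all fun p => rowPts.contains p && p != 0 && !maskB.testBit p) = true ∧
    (listB.map fun v => maskOf ((List.range keyPts.length).filter fun k => (rowOf (keyPts.getD k 0)).testBit v)).Nodup := by
  decide +kernel

/-- A point of the first suborbit is determined by the adjacent lines. -/
theorem B_separated {v w : V} (hv : InB v) (hw : InB w) (h : ∀ i, AdjS (lineP i) v ↔ AdjS (lineP i) w) : v = w := by
  obtain ⟨h1, h2⟩ := keys_ok
  simp only [List.all_eq_true, Bool.and_eq_true, List.contains_iff_mem, bne_iff_ne, Bool.not_eq_true'] at h1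
  refine Fin.ext (List.inj_on_of_nodup_map h2 ((inB_iff v).mp hv) ((inB_iff w).mp hw) ?_)
  congr 1
  refine List.filter_congr fun k hk => ?_
  rw [List.mem_range] at hk
  obtain ⟨⟨hr, h0⟩, hB⟩ := h1 (keyPts.getD k 0) (by rw [List.getD_eq_getElem _ _ hk]; exact List.getElem_mem hk)
  have hp : keyPts.getD k 0 < 1782 :=
    (by decide +kernel : ∀ p ∈ rowPts, p < 1782) _ hr
  obtain ⟨i, hi⟩ := exists_lineP (v := ⟨_, hp⟩) ⟨fun e => h0 (congrArg Fin.val e), by
    unfold InB; rw [hB]; decide⟩
  have := h i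
  rw [hi, row_spec (p := ⟨_, hp⟩) hr, row_spec (p := ⟨_, hp⟩) hr] at this
  exact Bool.eq_iff_iff.mpr this

/-- The special set of lines is the only invariant one. -/
theorem line_search : lineGeo.labOK lineLab lineExp lineReps = true ∧ lineGeo.rowsOK lineLab lineReps lineRows = true ∧
    (Geo.search lineReps lineRows (some specialBits) 64 lineSearch (List.replicate 57 2)).isSome = true ∧
    ((List.range 1365).all fun i => specialBits.testBit (Geo.rep lineReps (getA lineLab i)) == specialBits.testBit i) =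
      true := by decide +kernel

theorem point_search : pointGeo.labOK pointLab pointExp pointReps = true ∧
    pointGeo.rowsOK pointLab pointReps pointRows = true ∧
    (Geo.search pointReps pointRows none 64 pointSearch (List.replicate 57 2)).isSome = true := by
  decide +kernel

end CfsgLib.SuzRankThree
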