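import Cfsg.Agent.SuzRankThree.Graph

/-!
# Coordinates for a rank three action on 1782 points

The long suborbit becomes the lines of the hexagon and each point of the short one the special set of lines it is
joined to, so the points carry the standard graph.
-/

set_option autoImplicit false
set_option maxRecDepth 100000
set_option maxHeartbeats 1000000
set_option linter.unusedSectionVars false
set_option linter.style.haveILetI false

namespace CfsgLib.SuzRankThree

open MulAction

attribute [local irreducible] lineV lineIx lineT pointT linesOn pointsOn maskB rowBits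

variable {Ω : Type*} [Fintype Ω] [DecidableEq Ω] {G : Subgroup (Equiv.Perm Ω)} {a b c : Ω}

/-- The orbital of a pair. -/
def Rel (G : Subgroup (Equiv.Perm Ω)) (a b x y : Ω) : Prop := ∃ g ∈ G, g a = x ∧ g b = y

/-- The hypotheses. -/
structure Hyp (G : Subgroup (Equiv.Perm Ω)) (a b c : Ω) : Prop where
  card : Fintype.card Ω = 1782
  trans : ∀ x y : Ω, ∃ g ∈ G, g x = y
  cardB : {y | Rel G a b a y}.ncard = 416
  cardC : {y | Rel G a c a y}.ncard = 1365
  iso : Nonempty (M0 ≃* stabilizer G a)

theorem Rel.map {x y : Ω} {g : Equiv.Perm Ω} (hg : g ∈ G) (h : Rel G a b x y) : Rel G a b (g x) (g y) := by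
  obtain ⟨k, hk, rfl, rfl⟩ := h
  exact ⟨g * k, mul_mem hg hk, rfl, rfl⟩

theorem rel_map_iff {x y : Ω} {g : Equiv.Perm Ω} (hg : g ∈ G) : Rel G a b (g x) (g y) ↔ Rel G a b x y :=
  ⟨fun h => by simpa using h.map (inv_mem hg), Rel.map hg⟩

theorem image_nbhd {x : Ω} {g : Equiv.Perm Ω} (hg : g ∈ G) :
    g '' {y | Rel G a b x y} = {y | Rel G a b (g x) y} := by
  ext y
  constructor
  · rintro ⟨z, hz, rfl⟩
    exact Rel.map hg hz
  · intro hy
    refine ⟨g⁻¹ y, ?_, by simp⟩
    simpa using Rel.map (inv_mem hg) (show Rel G a b (g x) y from hy)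

section

variable (h : Hyp G a b c)

include h

theorem ncard_nbhd (x : Ω) : {y | Rel G a b x y}.ncard = 416 := by
  obtain ⟨g, hg, rfl⟩ := h.trans a x
  rw [← image_nbhd hg, Set.ncard_image_of_injective _ g.injective, h.cardB]

theorem not_rel_self (x : Ω) : ¬ Rel G a b x x := by
  rintro ⟨g, hg, e1, e2⟩
  have hab : a = b := g.injective (e1.trans e2.symm)
  have hsub : {y | Rel G a b a y} ⊆ {a} := by
    rintro y ⟨k, hk, k1, k2⟩
    exact (k2.symm.trans ((congrArg k hab.symm).trans k1) : y = a)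
  have := Set.ncard_le_ncard hsub
  rw [h.cardB, Set.ncard_singleton] at this
  omega

theorem not_C_self : ¬ Rel G a c a a := by
  rintro ⟨g, hg, e1, e2⟩
  have hac : a = c := g.injective (e1.trans e2.symm)
  have hsub : {y | Rel G a c a y} ⊆ {a} := by
    rintro y ⟨k, hk, k1, k2⟩
    exact (k2.symm.trans ((congrArg k hac.symm).trans k1) : y = a)
  have := Set.ncard_le_ncard hsub
  rw [h.cardC, Set.ncard_singleton] at this
  omega

theorem disjoint_BC {y : Ω} (hB : Rel G a b a y) (hC : Rel G a c a y) : False := by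
  obtain ⟨g, hg, g1, g2⟩ := hB
  obtain ⟨k, hk, k1, k2⟩ := hC
  have e : {z | Rel G a b a z} = {z | Rel G a c a z} := by
    have ga : g⁻¹ a = a := Equiv.Perm.inv_eq_iff_eq.mpr g1.symm
    have ka : k⁻¹ a = a := Equiv.Perm.inv_eq_iff_eq.mpr k1.symm
    ext z
    constructor
    · rintro ⟨m, hm, m1, rfl⟩
      refine ⟨m * (g⁻¹ * k), mul_mem hm (mul_mem (inv_mem hg) hk), ?_, ?_⟩
      · rw [Equiv.Perm.mul_apply, Equiv.Perm.mul_apply, k1, ga, m1]
      · rw [Equiv.Perm.mul_apply, Equiv.Perm.mul_apply, k2, ← g2]; simp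
    · rintro ⟨m, hm, m1, rfl⟩
      refine ⟨m * (k⁻¹ * g), mul_mem hm (mul_mem (inv_mem hk) hg), ?_, ?_⟩
      · rw [Equiv.Perm.mul_apply, Equiv.Perm.mul_apply, g1, ka, m1]
      · rw [Equiv.Perm.mul_apply, Equiv.Perm.mul_apply, g2, ← k2]; simp
  have := h.cardB
  rw [e, h.cardC] at this
  omega

theorem cover_points (y : Ω) : y = a ∨ Rel G a b a y ∨ Rel G a c a y := by
  have hd : Disjoint {y | Rel G a b a y} {y | Rel G a c a y} :=
    Set.disjoint_left.mpr fun z h1 h2 => disjoint_BC h h1 h2
  have hu : insert a ({y | Rel G a b a y} ∪ {y | Rel G a c a y}) = Set.univ := by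
    refine Set.eq_of_subset_of_ncard_le (Set.subset_univ _) ?_
    rw [Set.ncard_univ, Nat.card_eq_fintype_card, h.card, Set.ncard_insert_of_notMem ?_,
      Set.ncard_union_eq hd, h.cardB, h.cardC]
    rintro (h1 | h1)
    exacts [not_rel_self h a h1, not_C_self h h1]
  have hy : y ∈ insert a ({y | Rel G a b a y} ∪ {y | Rel G a c a y}) := hu ▸ Set.mem_univ y
  exact hy

theorem split_ncard (X : Set Ω) :
    X.ncard = (X ∩ {a}).ncard + (X ∩ {y | Rel G a b a y}).ncard + (X ∩ {y | Rel G a c a y}).ncard := by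
  rw [← Set.ncard_union_eq, ← Set.ncard_union_eq]
  · congr 1
    ext y
    have := cover_points h y
    simp only [Set.mem_union, Set.mem_inter_iff, Set.mem_singleton_iff, Set.mem_ofPred_eq]
    tauto
  · refine Set.disjoint_left.mpr ?_
    rintro z (⟨-, rfl⟩ | ⟨-, hz⟩) ⟨-, hz'⟩
    exacts [not_C_self h hz', disjoint_BC h hz hz']
  · refine Set.disjoint_left.mpr ?_
    rintro z ⟨-, rfl⟩ ⟨-, hz'⟩
    exact not_rel_self h _ hz'

theorem rel_symm {x y : Ω} (hxy : Rel G a b x y) : Rel G a b y x := by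
  classical
  let N' : Set Ω := {y | Rel G a b y a}
  have hN : N'.ncard = 416 := by
    have hin : ∀ z : Ω, (Finset.univ.filter fun x => Rel G a b x z).card = N'.ncard := by
      intro z
      obtain ⟨g, hg, rfl⟩ := h.trans a z
      rw [← Set.ncard_coe_finset, ← Set.ncard_image_of_injective N' g.injective]
      congr 1
      ext w
      simp only [Finset.coe_filter, Finset.mem_univ, true_and, Set.mem_ofPred_eq, Set.mem_image, N']
      constructor
      · intro hw
        exact ⟨g⁻¹ w, by simpa using hw.map (inv_mem hg), by simp⟩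
      · rintro ⟨v, hv, rfl⟩
        exact Rel.map hg hv
    have hout : ∀ z : Ω, (Finset.univ.filter fun y => Rel G a b z y).card = 416 := fun z => by
      rw [← Set.ncard_coe_finset, ← ncard_nbhd h z]
      congr 1
      simp
    have := Finset.sum_card_bipartiteAbove_eq_sum_card_bipartiteBelow (r := Rel G a b) (s := (Finset.univ : Finset Ω))
      (t := Finset.univ)
    simp only [Finset.bipartiteAbove, Finset.bipartiteBelow, hin, hout, Finset.sum_const, Finset.card_univ, h.card,
      smul_eq_mul] at this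
    omega
  have heq : N' = {y | Rel G a b a y} := by
    by_cases hbN : Rel G a b b a
    · refine (Set.eq_of_subset_of_ncard_le ?_ (le_of_eq (by rw [hN, h.cardB]))).symm
      rintro z ⟨g, hg, g1, rfl⟩
      have := hbN.map hg
      rwa [g1] at this
    · exfalso
      have hsub : ∀ z ∈ N', ¬ Rel G a b a z := by
        rintro z hz ⟨g, hg, g1, rfl⟩
        have := Rel.map (inv_mem hg) (show Rel G a b (g b) a from hz)
        rw [show g⁻¹ a = a from Equiv.Perm.inv_eq_iff_eq.mpr g1.symm] at this
        exact hbN (by simpa using this)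
      by_cases hcN : ∃ z ∈ N', Rel G a c a z
      · obtain ⟨z, hz, k, hk, k1, rfl⟩ := hcN
        have hall : {y | Rel G a c a y} ⊆ N' := by
          rintro w ⟨m, hm, m1, rfl⟩
          have := Rel.map (mul_mem hm (inv_mem hk)) (show Rel G a b (k c) a from hz)
          rw [Equiv.Perm.mul_apply, Equiv.Perm.mul_apply, show k⁻¹ a = a from Equiv.Perm.inv_eq_iff_eq.mpr k1.symm,
            m1] at this
          show Rel G a b (m c) a
          simpa using this
        have := Set.ncard_le_ncard hall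
        rw [hN, h.cardC] at this
        omega
      · have hsub' : N' ⊆ {a} := fun z hz => by
          rcases cover_points h z with e | e | e
          exacts [e, absurd e (hsub z hz), absurd ⟨z, hz, e⟩ hcN]
        have := Set.ncard_le_ncard hsub'
        rw [hN, Set.ncard_singleton] at this
        omega
  obtain ⟨g, hg, rfl, rfl⟩ := hxy
  have hb : b ∈ N' := heq ▸ (⟨1, one_mem G, rfl, rfl⟩ : Rel G a b a b)
  exact Rel.map hg hb

end

/-- An action of the standard stabiliser on the points, through the point stabiliser. -/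
structure IsAct (G : Subgroup (Equiv.Perm Ω)) (a : Ω) (P : M0 →* Equiv.Perm Ω) : Prop where
  mem : ∀ m, P m ∈ G
  fix : ∀ m, P m a = a
  surj : ∀ g ∈ G, g a = a → ∃ m, P m = g
  inj : Function.Injective P

/-- A coordinatisation of the second suborbit. -/
structure IsLab (G : Subgroup (Equiv.Perm Ω)) (a c : Ω) (P : M0 →* Equiv.Perm Ω) (S : Geo) (γ : I → Ω) : Prop where
  mem : ∀ i, Rel G a c a (γ i)
  inj : Function.Injective γ
  surj : ∀ y, Rel G a c a y → ∃ i, γ i = y
  equiv : ∀ m i, P m (γ i) = γ (S.act m i)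

theorem exists_act (h : Hyp G a b c) : ∃ P : M0 →* Equiv.Perm Ω, IsAct G a P := by
  obtain ⟨ψ⟩ := h.iso
  refine ⟨(G.subtype.comp (stabilizer G a).subtype).comp ψ.toMonoidHom, ⟨fun m => ((ψ m : stabilizer G a) : G).2,
    fun m => (ψ m).2, fun g hg ga => ?_, ?_⟩⟩
  · obtain ⟨m, hm⟩ := ψ.surjective ⟨⟨g, hg⟩, ga⟩
    exact ⟨m, by simp [hm]⟩
  · exact (G.subtype_injective.comp (stabilizer G a).subtype_injective).comp ψ.injective

theorem exists_lab (h : Hyp G a b c) {P : M0 →* Equiv.Perm Ω} (hP : IsAct G a P) :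
    ∃ γ, IsLab G a c P lineGeo γ ∨ IsLab G a c P pointGeo γ := by
  classical
  letI : MulAction M0 Ω := MulAction.compHom Ω P
  have horb : orbit M0 c = {y | Rel G a c a y} := by
    ext y
    constructor
    · rintro ⟨m, rfl⟩
      exact ⟨P m, hP.mem m, hP.fix m, rfl⟩
    · rintro ⟨g, hg, ga, rfl⟩
      obtain ⟨m, rfl⟩ := hP.surj g hg ga
      exact ⟨m, rfl⟩
  have hX : Nat.card (stabilizer M0 c) = 184320 := by
    have := (stabilizer M0 c).card_mul_index
    rw [index_stabilizer, horb, h.cardC, card_M0] at this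
    omega
  obtain ⟨k, hk⟩ := parabolic (stabilizer M0 c) hX
  suffices key : ∀ S : Geo, S.Props → (∀ x ∈ stabilizer M0 c, S.act (k⁻¹ * x * k) 0 = 0) →
      ∃ γ, IsLab G a c P S γ by
    rcases hk with hk | hk
    · exact (key lineGeo lineGeo_props hk).imp fun γ => Or.inl
    · exact (key pointGeo pointGeo_props hk).imp fun γ => Or.inr
  intro S hS hfix
  set c' : Ω := P k⁻¹ c with hc'
  have hSt : Nat.card {m : M0 | S.act m 0 = 0} = 184320 := by
    letI : MulAction M0 I := MulAction.compHom I S.act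
    have he : orbit M0 (0 : I) = Set.univ := Set.eq_univ_of_forall fun i => (hS.trans i).imp fun m e => e
    have := (stabilizer M0 (0 : I)).card_mul_index
    rw [index_stabilizer, he, Set.ncard_univ, Nat.card_fin, card_M0] at this
    have e : Nat.card {m : M0 | S.act m 0 = 0} = Nat.card (stabilizer M0 (0 : I)) := rfl
    omega
  have hiff : ∀ m, S.act m 0 = 0 ↔ P m c' = c' := by
    let f : stabilizer M0 c → {m : M0 | S.act m 0 = 0} := fun x => ⟨k⁻¹ * x * k, hfix x x.2⟩
    have hf : Function.Bijective f := (Nat.bijective_iff_injective_and_card f).mpr ⟨fun x y e => Subtype.ext (by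
      simpa [f] using congrArg Subtype.val e), by rw [hX, hSt]⟩
    have hkk : P k c' = c := by rw [hc', ← Equiv.Perm.mul_apply, ← map_mul]; simp
    intro m
    constructor
    · intro hm
      obtain ⟨⟨x, hx⟩, e⟩ := hf.2 ⟨m, hm⟩
      have e' : k⁻¹ * x * k = m := congrArg Subtype.val e
      rw [← e', map_mul, map_mul, Equiv.Perm.mul_apply, Equiv.Perm.mul_apply, hkk, show P x c = c from hx]
    · intro hm
      have hx : k * m * k⁻¹ ∈ stabilizer M0 c := by
        show P (k * m * k⁻¹) c = c
        rw [map_mul, map_mul, Equiv.Perm.mul_apply, Equiv.Perm.mul_apply, show P k⁻¹ c = c' from rfl, hm, hkk]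
      simpa [mul_assoc] using hfix _ hx
  choose t ht using hS.trans
  have hwell : ∀ m n : M0, S.act m 0 = S.act n 0 → P m c' = P n c' := by
    intro m n e
    have : S.act (n⁻¹ * m) 0 = 0 := by
      rw [map_mul, Equiv.Perm.mul_apply, e, ← Equiv.Perm.mul_apply, ← map_mul]; simp
    have := congrArg (P n) ((hiff _).mp this)
    rwa [← Equiv.Perm.mul_apply, ← map_mul, mul_inv_cancel_left] at this
  refine ⟨fun i => P (t i) c', ⟨fun i => ?_, fun i j e => ?_, ?_, fun m i => ?_⟩⟩
  · exact ⟨P (t i * k⁻¹), hP.mem _, hP.fix _, by rw [map_mul]; rfl⟩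
  · have : P ((t j)⁻¹ * t i) c' = c' := by
      rw [map_mul, Equiv.Perm.mul_apply, show P (t i) c' = P (t j) c' from e, ← Equiv.Perm.mul_apply, ← map_mul]
      simp
    have := congrArg (S.act (t j)) ((hiff _).mpr this)
    rwa [← Equiv.Perm.mul_apply, ← map_mul, mul_inv_cancel_left, ht, ht] at this
  · intro y hy
    obtain ⟨m, rfl⟩ : y ∈ orbit M0 c := horb ▸ hy
    refine ⟨S.act (m * k) 0, ?_⟩
    show P _ c' = P m c
    rw [hwell _ (m * k) (ht _), hc', ← Equiv.Perm.mul_apply, ← map_mul, mul_inv_cancel_right]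
  · show P m (P (t i) c') = P (t (S.act m i)) c'
    rw [← Equiv.Perm.mul_apply, ← map_mul]
    exact hwell _ _ (by rw [ht, map_mul, Equiv.Perm.mul_apply, ht])

section

variable (h : Hyp G a b c) {P : M0 →* Equiv.Perm Ω} (hP : IsAct G a P) {S : Geo} (hS : S.Props) {γ : I → Ω}
  (L : IsLab G a c P S γ)

include h hP hS L

theorem not_rel_a (z : I) : ¬ Rel G a b (γ z) a := fun hr => disjoint_BC h (rel_symm h hr) (L.mem z)

theorem rel_P (m : M0) {x y : Ω} : Rel G a b (P m x) (P m y) ↔ Rel G a b x y := rel_map_iff (hP.mem m)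

theorem C_inter (X : Set Ω) : (X ∩ {y | Rel G a c a y}).ncard = {i | γ i ∈ X}.ncard := by
  rw [← Set.ncard_image_of_injective {i | γ i ∈ X} L.inj]
  congr 1
  ext y
  constructor
  · rintro ⟨h1, h2⟩
    obtain ⟨i, rfl⟩ := L.surj y h2
    exact ⟨i, h1, rfl⟩
  · rintro ⟨i, hi, rfl⟩
    exact ⟨hi, L.mem i⟩

/-- The parameters. -/
theorem parameters : (∀ z w, Rel G a b (γ z) (γ w) ↔ S.Two z w) ∧
    (∀ z, ({y | Rel G a b (γ z) y} ∩ {y | Rel G a b a y}).ncard = 96) ∧
    (∀ x y, Rel G a b x y → ({z | Rel G a b x z} ∩ {z | Rel G a b y z}).ncard = 100) ∧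
    (∀ x y, x ≠ y → ¬ Rel G a b x y → ({z | Rel G a b x z} ∩ {z | Rel G a b y z}).ncard = 96) := by
  classical
  set T : Set I := {w | Rel G a b (γ 0) (γ w)} with hT
  set μ := ({y | Rel G a b (γ 0) y} ∩ {y | Rel G a b a y}).ncard with hμ
  have hinv : ∀ m, S.act m 0 = 0 → ∀ w, w ∈ T ↔ S.act m w ∈ T := by
    intro m hm w
    show Rel G a b (γ 0) (γ w) ↔ Rel G a b (γ 0) (γ (S.act m w))
    conv_rhs => rw [show γ 0 = P m (γ 0) by rw [L.equiv, hm], ← L.equiv]
    exact (rel_P h hP hS L m).symm
  have h0 : (0 : I) ∉ T := not_rel_self h _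
  have hsum : μ + T.ncard = 416 := by
    have hs := split_ncard h {y | Rel G a b (γ 0) y}
    have e0 : ({y | Rel G a b (γ 0) y} ∩ {a}).ncard = 0 := by
      rw [Set.ncard_eq_zero (Set.toFinite _)]
      refine Set.eq_empty_of_forall_notMem ?_
      rintro z ⟨hz, rfl⟩
      exact not_rel_a h hP hS L 0 hz
    rw [ncard_nbhd h, e0, ← hμ, C_inter h hP hS L] at hs
    simp only [Set.mem_ofPred_eq, ← hT] at hs
    omega
  have hfar : ∀ w ∈ T, S.Near 0 w ∨ S.Two 0 w := by
    intro w hw
    by_contra hh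
    simp only [not_or] at hh
    have h1024 := hS.farBig 0 w (fun e => h0 (e ▸ hw)) hh.1 hh.2
    have hle := Set.ncard_le_ncard (show {w' | ∃ m : M0, S.act m 0 = 0 ∧ S.act m w = w'} ⊆ T by
      rintro _ ⟨m, hm, rfl⟩; exact (hinv m hm w).mp hw)
    omega
  set A : Set I := {w | S.Near 0 w}
  set B : Set I := {w | S.Two 0 w}
  have hA : T ∩ A = ∅ ∨ T ∩ A = A := by
    rcases Set.eq_empty_or_nonempty (T ∩ A) with e | ⟨w, hw, hw'⟩
    · exact Or.inl e
    · refine Or.inr (Set.inter_eq_right.mpr fun v hv => ?_)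
      obtain ⟨m, hm, rfl⟩ := hS.transNear 0 w v hw' hv
      exact (hinv m hm w).mp hw
  have hB : T ∩ B = ∅ ∨ T ∩ B = B := by
    rcases Set.eq_empty_or_nonempty (T ∩ B) with e | ⟨w, hw, hw'⟩
    · exact Or.inl e
    · refine Or.inr (Set.inter_eq_right.mpr fun v hv => ?_)
      obtain ⟨m, hm, rfl⟩ := hS.transTwo 0 w v hw' hv
      exact (hinv m hm w).mp hw
  have hTd : T.ncard = (T ∩ A).ncard + (T ∩ B).ncard := by
    rw [← Set.ncard_union_eq]
    · congr 1
      ext w
      exact ⟨fun hw => (hfar w hw).elim (fun e => Or.inl ⟨hw, e⟩) fun e => Or.inr ⟨hw, e⟩,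
        fun hh => hh.elim And.left And.left⟩
    · exact Set.disjoint_left.mpr fun v hv hv' => hv'.2.2.1 hv.2
  -- counting the edges between the suborbits
  set lam := ({z | Rel G a b a z} ∩ {z | Rel G a b b z}).ncard with hlam
  have hpair : ∀ x y, Rel G a b x y → ({z | Rel G a b x z} ∩ {z | Rel G a b y z}).ncard = lam := by
    rintro x y ⟨g, hg, rfl, rfl⟩
    rw [← image_nbhd hg, ← image_nbhd hg, ← Set.image_inter g.injective, Set.ncard_image_of_injective _ g.injective]
  have hμC : ∀ z, ({y | Rel G a b (γ z) y} ∩ {y | Rel G a b a y}).ncard = μ := by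
    intro z
    obtain ⟨m, rfl⟩ := hS.trans z
    rw [hμ, ← L.equiv, ← image_nbhd (hP.mem m)]
    nth_rw 1 [show {y | Rel G a b a y} = P m '' {y | Rel G a b a y} by rw [image_nbhd (hP.mem m), hP.fix]]
    rw [← Set.image_inter (P m).injective, Set.ncard_image_of_injective _ (P m).injective]
  have hBC : ∀ y, Rel G a b a y → ({z | Rel G a b y z} ∩ {z | Rel G a c a z}).ncard + lam = 415 := by
    intro y hy
    have hs := split_ncard h {z | Rel G a b y z}
    have e1 : ({z | Rel G a b y z} ∩ {a}).ncard = 1 := by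
      rw [Set.inter_eq_right.mpr (Set.singleton_subset_iff.mpr (show a ∈ {z | Rel G a b y z} from rel_symm h hy)),
        Set.ncard_singleton]
    rw [ncard_nbhd h, e1, Set.inter_comm {z | Rel G a b y z} {z | Rel G a b a z}, hpair a y hy] at hs
    omega
  have hcount : 416 * (415 - lam) = 1365 * μ := by
    let Bf := Finset.univ.filter fun y => Rel G a b a y
    let Cf := Finset.univ.filter fun y => Rel G a c a y
    have hb : Bf.card = 416 := by rw [← h.cardB, ← Set.ncard_coe_finset]; simp [Bf]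
    have hc : Cf.card = 1365 := by rw [← h.cardC, ← Set.ncard_coe_finset]; simp [Cf]
    have e1 : ∀ y ∈ Bf, (Cf.bipartiteAbove (Rel G a b) y).card = 415 - lam := by
      intro y hy
      have := hBC y (by simpa [Bf] using hy)
      rw [← Set.ncard_coe_finset,
        show (↑(Cf.bipartiteAbove (Rel G a b) y) : Set Ω) = {z | Rel G a b y z} ∩ {z | Rel G a c a z} by
          ext; simp [Finset.bipartiteAbove, Cf, and_comm]]
      omega
    have e2 : ∀ z ∈ Cf, (Bf.bipartiteBelow (Rel G a b) z).card = μ := by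
      intro z hz
      obtain ⟨i, rfl⟩ := L.surj z (by simpa [Cf] using hz)
      rw [← Set.ncard_coe_finset, ← hμC i]
      congr 1
      ext w
      simp only [Finset.bipartiteBelow, Bf, Finset.coe_filter, Finset.mem_filter, Finset.mem_univ, true_and,
        Set.mem_ofPred_eq, Set.mem_inter_iff]
      exact ⟨fun h1 => ⟨rel_symm h h1.2, h1.1⟩, fun h1 => ⟨h1.2, rel_symm h h1.1⟩⟩
    have := Finset.sum_card_bipartiteAbove_eq_sum_card_bipartiteBelow (r := Rel G a b) (s := Bf) (t := Cf)
    rw [Finset.sum_congr rfl e1, Finset.sum_congr rfl e2, Finset.sum_const, Finset.sum_const, hb, hc,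
      smul_eq_mul, smul_eq_mul] at this
    exact this
  have cA : A.ncard = 20 := hS.cardNear 0
  have cB : B.ncard = 320 := hS.cardTwo 0
  have hfin : T = B ∧ μ = 96 ∧ lam = 100 := by
    rcases hA with e1 | e1 <;> rcases hB with e2 | e2 <;> rw [e1, e2] at hTd <;>
      simp only [Set.ncard_empty, cA, cB] at hTd
    · omega
    · refine ⟨Set.Subset.antisymm (fun w hw => ?_) (e2 ▸ Set.inter_subset_left), by omega, by omega⟩
      exact (hfar w hw).resolve_left fun e => (Set.eq_empty_iff_forall_notMem.mp e1) w ⟨hw, e⟩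
    · omega
    · omega
  obtain ⟨hTB, hμ96, hlam100⟩ := hfin
  refine ⟨fun z w => ?_, fun z => (hμC z).trans hμ96, fun x y hxy => (hpair x y hxy).trans hlam100,
    fun x y hne hn => ?_⟩
  · obtain ⟨m, rfl⟩ := hS.trans z
    obtain ⟨w, rfl⟩ := (S.act m).surjective w
    rw [← L.equiv, ← L.equiv, rel_P h hP hS L, S.two_act]
    exact Set.ext_iff.mp hTB w
  · obtain ⟨g, hg, rfl⟩ := h.trans a x
    obtain ⟨y, rfl⟩ := g.surjective y
    rw [← image_nbhd hg, ← image_nbhd hg, ← Set.image_inter g.injective, Set.ncard_image_of_injective _ g.injective]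
    rw [rel_map_iff hg] at hn
    rcases cover_points h y with e | e | e
    · exact absurd (by rw [e]) hne
    · exact absurd e hn
    · obtain ⟨i, rfl⟩ := L.surj y e
      rw [Set.inter_comm]
      exact (hμC i).trans hμ96

/-- The set of a point of the first suborbit meets the near objects in seven times its indicator plus three. -/
theorem equation {x : Ω} (hx : Rel G a b a x) (z : I) :
    (({w | S.Near z w} ∩ {w | Rel G a b (γ w) x}).ncard : ℤ) =
      7 * (({z} ∩ {w | Rel G a b (γ w) x} : Set I).ncard : ℤ) + 3 := by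
  classical
  obtain ⟨hTwo, hμ, hl, hm⟩ := parameters h hP hS L
  let Bf := Finset.univ.filter fun y => Rel G a b a y
  let N := Finset.univ.filter fun w => S.Near z w
  let χ : I → Ω → ℤ := fun i y => if Rel G a b (γ i) y then 1 else 0
  have hN : N.card = 20 := by rw [← hS.cardNear z, ← Set.ncard_coe_finset]; simp [N]
  have hB : Bf.card = 416 := by rw [← h.cardB, ← Set.ncard_coe_finset]; simp [Bf]
  have h1 : ∀ i, ∑ y ∈ Bf, χ i y = 96 := by
    intro i
    simp only [χ, Finset.sum_boole]
    rw [show (96 : ℤ) = ((96 : ℕ) : ℤ) from rfl, Nat.cast_inj, ← hμ i, ← Set.ncard_coe_finset]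
    congr 1
    ext y
    simp [Bf, and_comm]
  have h2 : ∀ i j, ∑ y ∈ Bf, χ i y * χ j y =
      (({y | Rel G a b (γ i) y} ∩ {y | Rel G a b (γ j) y} ∩ {y | Rel G a b a y}).ncard : ℤ) := by
    intro i j
    have e : ∀ y, χ i y * χ j y = if Rel G a b (γ i) y ∧ Rel G a b (γ j) y then 1 else 0 := fun y => by
      simp only [χ]; split_ifs <;> simp_all
    simp only [e, Finset.sum_boole]
    rw [Nat.cast_inj, ← Set.ncard_coe_finset]
    congr 1
    ext y
    simp [Bf, and_comm, and_left_comm]
  have pair : ∀ i j, i ≠ j → ({y | Rel G a b (γ i) y} ∩ {y | Rel G a b (γ j) y} ∩ {y | Rel G a b a y}).ncard +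
      ({w | S.Two i w} ∩ {w | S.Two j w}).ncard = if S.Two i j then 100 else 96 := by
    intro i j hne
    have hs := split_ncard h ({y | Rel G a b (γ i) y} ∩ {y | Rel G a b (γ j) y})
    have e0 : ({y | Rel G a b (γ i) y} ∩ {y | Rel G a b (γ j) y} ∩ {a}).ncard = 0 := by
      rw [Set.ncard_eq_zero (Set.toFinite _)]
      refine Set.eq_empty_of_forall_notMem ?_
      rintro y ⟨⟨hy, -⟩, rfl⟩
      exact not_rel_a h hP hS L i hy
    have eC : ({y | Rel G a b (γ i) y} ∩ {y | Rel G a b (γ j) y} ∩ {y | Rel G a c a y}).ncard =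
        ({w | S.Two i w} ∩ {w | S.Two j w}).ncard := by
      rw [C_inter h hP hS L]
      congr 1
      ext w
      simp [hTwo]
    rw [e0, eC, Nat.zero_add] at hs
    rw [← hs]
    split_ifs with ht
    · exact hl _ _ ((hTwo i j).mpr ht)
    · exact hm _ _ (fun e => hne (L.inj e)) (fun e => ht ((hTwo i j).mp e))
  have kself : ∀ i, ∑ y ∈ Bf, χ i y * χ i y = 96 := fun i => by
    rw [← h1 i]
    exact Finset.sum_congr rfl fun y _ => by simp only [χ]; split_ifs <;> rfl
  have knear : ∀ i j, S.Near i j → ∑ y ∈ Bf, χ i y * χ j y = 48 := fun i j hij => by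
    have := pair i j hij.1
    rw [hS.twoNear i j hij, if_neg (fun ht => ht.2.1 hij)] at this
    rw [h2]
    omega
  have ktwo : ∀ i j, S.Two i j → ∑ y ∈ Bf, χ i y * χ j y = 24 := fun i j hij => by
    have := pair i j hij.1
    rw [hS.twoTwo i j hij, if_pos hij] at this
    rw [h2]
    omega
  have hrow : ∀ i ∈ N, ∑ j ∈ N, ∑ y ∈ Bf, χ i y * χ j y = 624 := by
    intro i hi
    have hzi : S.Near z i := by simpa [N] using hi
    let N1 := N.filter fun j => S.Near i j
    let N2 := N.filter fun j => S.Two i j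
    have c1 : N1.card = 3 := by
      rw [← hS.nearNear z i hzi, ← Set.ncard_coe_finset]; simp [N1, N, Set.setOf_and]
    have c2 : N2.card = 16 := by
      rw [← hS.nearTwo z i hzi, ← Set.ncard_coe_finset]; simp [N2, N, Set.setOf_and]
    have d12 : Disjoint N1 N2 := Finset.disjoint_left.mpr fun j hj hj' =>
      (Finset.mem_filter.mp hj').2.2.1 (Finset.mem_filter.mp hj).2
    have di : i ∉ N1 ∪ N2 := by
      intro hmem
      rcases Finset.mem_union.mp hmem with hh | hh
      · exact (Finset.mem_filter.mp hh).2.1 rfl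
      · exact (Finset.mem_filter.mp hh).2.1 rfl
    have eN : N = insert i (N1 ∪ N2) := by
      refine (Finset.eq_of_subset_of_card_le ?_ ?_).symm
      · intro j hj
        rcases Finset.mem_insert.mp hj with rfl | hh
        · exact hi
        · rcases Finset.mem_union.mp hh with hh | hh <;> exact (Finset.mem_filter.mp hh).1
      · rw [Finset.card_insert_of_notMem di, Finset.card_union_of_disjoint d12, c1, c2, hN]
    rw [eN, Finset.sum_insert di, Finset.sum_union d12, kself,
      Finset.sum_congr rfl fun j hj => knear i j (Finset.mem_filter.mp hj).2,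
      Finset.sum_congr rfl fun j hj => ktwo i j (Finset.mem_filter.mp hj).2, Finset.sum_const, Finset.sum_const, c1, c2]
    rfl
  let f : Ω → ℤ := fun y => (∑ i ∈ N, χ i y) - 7 * χ z y - 3
  have expand : ∑ y ∈ Bf, f y * f y = 0 := by
    have e : ∀ y, f y * f y = (∑ i ∈ N, ∑ j ∈ N, χ i y * χ j y) - 14 * (∑ i ∈ N, χ z y * χ i y) +
        49 * (χ z y * χ z y) - 6 * (∑ i ∈ N, χ i y) + 42 * χ z y + 9 := fun y => by
      simp only [f]
      rw [← Finset.sum_mul_sum, ← Finset.mul_sum]
      ring
    have sA : ∑ y ∈ Bf, ∑ i ∈ N, ∑ j ∈ N, χ i y * χ j y = 12480 := by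
      rw [Finset.sum_comm, Finset.sum_congr rfl fun i hi => (Finset.sum_comm).trans (hrow i hi), Finset.sum_const, hN]
      rfl
    have sB : ∑ y ∈ Bf, ∑ i ∈ N, χ z y * χ i y = 960 := by
      rw [Finset.sum_comm, Finset.sum_congr rfl fun i hi => knear z i (by simpa [N] using hi), Finset.sum_const, hN]
      rfl
    have sC : ∑ y ∈ Bf, ∑ i ∈ N, χ i y = 1920 := by
      rw [Finset.sum_comm, Finset.sum_congr rfl fun i _ => h1 i, Finset.sum_const, hN]
      rfl
    rw [Finset.sum_congr rfl fun y _ => e y, Finset.sum_add_distrib, Finset.sum_add_distrib, Finset.sum_sub_distrib,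
      Finset.sum_add_distrib, Finset.sum_sub_distrib, ← Finset.mul_sum Bf (fun y => ∑ i ∈ N, χ z y * χ i y) (14 : ℤ),
      ← Finset.mul_sum Bf (fun y => χ z y * χ z y) (49 : ℤ), ← Finset.mul_sum Bf (fun y => ∑ i ∈ N, χ i y) (6 : ℤ),
      ← Finset.mul_sum Bf (fun y => χ z y) (42 : ℤ), Finset.sum_const, hB, sA, sB, sC, kself, h1]
    rfl
  have hxB : x ∈ Bf := by simpa [Bf] using hx
  have h0 := (Finset.sum_eq_zero_iff_of_nonneg fun y _ => mul_self_nonneg (f y)).mp expand x hxB
  rw [mul_self_eq_zero] at h0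
  have e1 : (({w | S.Near z w} ∩ {w | Rel G a b (γ w) x}).ncard : ℤ) = ∑ i ∈ N, χ i x := by
    simp only [χ, Finset.sum_boole]
    rw [Nat.cast_inj, ← Set.ncard_coe_finset]
    congr 1
    ext w
    simp [N]
  have e2 : ((({z} ∩ {w | Rel G a b (γ w) x} : Set I)).ncard : ℤ) = χ z x := by
    simp only [χ]
    split_ifs with hz
    · rw [Set.inter_eq_left.mpr (Set.singleton_subset_iff.mpr (show z ∈ {w | Rel G a b (γ w) x} from hz)),
        Set.ncard_singleton]
      rfl
    · rw [Set.singleton_inter_eq_empty.mpr (show z ∉ {w | Rel G a b (γ w) x} from hz), Set.ncard_empty]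
      rfl
  rw [e1, e2]
  simp only [f] at h0
  linarith

end

theorem five_cert : LettersH fiveA ∧ LettersH fiveB ∧ sameW (List.replicate 5 fiveA).flatten [] = true ∧
    sameW (List.replicate 5 fiveB).flatten [] = true ∧ sameW (fiveA ++ fiveB) (fiveB ++ fiveA) = true := by
  decide +kernel

/-- The two commuting elements of order five. -/
noncomputable def Five : Subgroup M0 := Subgroup.closure {wM fiveA, wM fiveB}

theorem five_isPGroup : IsPGroup 5 Five := by
  haveI : Fact (Nat.Prime 5) := ⟨Nat.prime_five⟩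
  obtain ⟨la, lb, ha, hb, hab⟩ := five_cert
  have pa : wM fiveA ^ 5 = 1 := by
    rw [← (wM_pow la 5).2, ← wM_nil]
    exact wM_congr (wM_pow la 5).1 (by decide) ha
  have pb : wM fiveB ^ 5 = 1 := by
    rw [← (wM_pow lb 5).2, ← wM_nil]
    exact wM_congr (wM_pow lb 5).1 (by decide) hb
  have hc : Commute (wM fiveA) (wM fiveB) := by
    have := wM_congr (la.append lb) (lb.append la) hab
    rw [wM_append la lb, wM_append lb la] at this
    exact this.symm
  intro q
  refine ⟨1, Subtype.ext ?_⟩
  show (q : M0) ^ (5 ^ 1) = 1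
  rw [pow_one]
  have key : ∀ x ∈ Five, x ^ 5 = 1 ∧ Commute x (wM fiveA) ∧ Commute x (wM fiveB) := by
    intro x hx
    rw [Five, ← Subgroup.mem_toSubmonoid, Subgroup.closure_toSubmonoid_of_finite] at hx
    induction hx using Submonoid.closure_induction with
    | mem x hx =>
      rcases hx with rfl | rfl
      exacts [⟨pa, Commute.refl _, hc⟩, ⟨pb, hc.symm, Commute.refl _⟩]
    | one => exact ⟨one_pow _, Commute.one_left _, Commute.one_left _⟩
    | mul x y hx' hy' hx hy =>
      have hxy : Commute x y := by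
        clear hx
        induction hx' using Submonoid.closure_induction with
        | mem x hx =>
          rcases hx with rfl | rfl
          exacts [hy.2.1.symm, hy.2.2.symm]
        | one => exact Commute.one_left _
        | mul u v _ _ hu hv => exact hu.mul_left hv
      exact ⟨by rw [hxy.mul_pow, hx.1, hy.1, one_mul], hx.2.1.mul_left hy.2.1, hx.2.2.mul_left hy.2.2⟩
  exact (key q q.2).1

section

variable (h : Hyp G a b c) {P : M0 →* Equiv.Perm Ω} (hP : IsAct G a P)

include h hP

/-- A point of the first suborbit fixed by the group of order 25. -/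
theorem exists_fixed : ∃ x, Rel G a b a x ∧ P (wM fiveA) x = x ∧ P (wM fiveB) x = x := by
  haveI : Fact (Nat.Prime 5) := ⟨Nat.prime_five⟩
  letI : MulAction Five {y // Rel G a b a y} :=
    { smul := fun q y => ⟨P (q : M0) y.1, by
        have := y.2.map (hP.mem q)
        rwa [hP.fix] at this⟩
      one_smul := fun y => Subtype.ext (by show P ((1 : Five) : M0) y.1 = y.1; simp)
      mul_smul := fun q r y => Subtype.ext (by
        show P ((q * r : Five) : M0) y.1 = P (q : M0) (P (r : M0) y.1)
        simp) }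
  obtain ⟨y, hy⟩ := five_isPGroup.nonempty_fixed_point_of_prime_not_dvd_card {y // Rel G a b a y} (by
    rw [show Nat.card {y // Rel G a b a y} = 416 from (Nat.card_coe_set_eq _).trans h.cardB]
    norm_num)
  exact ⟨y.1, y.2, congrArg Subtype.val (hy ⟨_, Subgroup.subset_closure (Set.mem_insert _ _)⟩),
    congrArg Subtype.val (hy ⟨_, Subgroup.subset_closure (Set.mem_insert_of_mem _ rfl)⟩)⟩

theorem invariant_of_fixed {S : Geo} (hS : S.Props) {γ : I → Ω} (L : IsLab G a c P S γ) {x : Ω} {m : M0}
    (hm : P m x = x) : ∀ i, i ∈ {w | Rel G a b (γ w) x} → S.act m i ∈ {w | Rel G a b (γ w) x} := by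
  intro i hi
  show Rel G a b (γ (S.act m i)) x
  rw [← L.equiv, ← hm]
  exact (rel_P h hP hS L m).mpr hi

/-- The points are the standard points. -/
theorem exists_coords : ∃ π : V ≃ Ω, π 0 = a ∧ (∀ i j, Rel G a b (π i) (π j) ↔ AdjS i j) ∧
    ∀ g ∈ G, g a = a → ∃ m ∈ M0, ∀ v, g (π v) = π (m v) := by
  classical
  obtain ⟨x', hx', hxA, hxB⟩ := exists_fixed h hP
  obtain ⟨γ, L | L⟩ := exists_lab h hP
  swap
  · exfalso
    obtain ⟨hlab, hrows, hcode⟩ := point_search
    obtain ⟨S, hS, -⟩ := pointGeo.invariant_set pointLab pointExp pointReps pointRows hlab hrows hcode _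
      (equation h hP pointGeo_props L hx') (invariant_of_fixed h hP pointGeo_props L hxA)
      (invariant_of_fixed h hP pointGeo_props L hxB)
    cases hS
  have hL := lineGeo_props
  obtain ⟨hTwo, hμ, hlam, -⟩ := parameters h hP hL L
  let T : Ω → Set I := fun x => {w | Rel G a b (γ w) x}
  let stdT : V → Set I := fun v => {w | AdjS (lineP w) v}
  have hT0 : T x' = stdT x0 := by
    obtain ⟨hlab, hrows, hcode, hspec⟩ := line_search
    obtain ⟨S, hS, hiff⟩ := lineGeo.invariant_set lineLab lineExp lineReps lineRows hlab hrows hcode _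
      (equation h hP hL L hx') (invariant_of_fixed h hP hL L hxA) (invariant_of_fixed h hP hL L hxB)
    obtain rfl : specialBits = S := Option.some.inj hS
    have hs : ∀ i : I, specialBits.testBit (Geo.rep lineReps (getA lineLab i.val)) = specialBits.testBit i.val :=
      fun i => beq_iff_eq.mp (List.all_eq_true.mp hspec i.val (List.mem_range.mpr i.isLt))
    obtain ⟨i₀, hi₀⟩ : (T x').Nonempty := by
      by_contra hh
      rw [Set.not_nonempty_iff_eq_empty] at hh
      have := equation h hP hL L hx' 0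
      rw [show {w | Rel G a b (γ w) x'} = ∅ from hh] at this
      simp at this
    ext i
    show Rel G a b (γ i) x' ↔ AdjS (lineP i) x0
    rw [special_iff, ← hs i]
    exact ⟨fun hi => (hiff i hi).1, fun hi => (hiff i₀ hi₀).2 i hi⟩
  have Tmap : ∀ (m : M0) x, T (P m x) = actL m '' T x := by
    intro m x
    ext i
    obtain ⟨i, rfl⟩ := (actL m).surjective i
    rw [(actL m).injective.mem_set_image]
    show Rel G a b (γ (lineGeo.act m i)) (P m x) ↔ _
    rw [← L.equiv, rel_P h hP hL L]
    rfl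
  have stdMap : ∀ (m : M0) v, stdT ((m : Equiv.Perm V) v) = actL m '' stdT v := by
    intro m v
    ext i
    obtain ⟨i, rfl⟩ := (actL m).surjective i
    rw [(actL m).injective.mem_set_image]
    show AdjS (lineP (actL m i)) ((m : Equiv.Perm V) v) ↔ _
    rw [lineP_actL, adj_M (M0_le_M m.2)]
    rfl
  have moveB : ∀ v, InB v → ∃ m : M0, (m : Equiv.Perm V) x0 = v := by
    intro v hv
    obtain ⟨m, hm, e⟩ := trans_B hv
    obtain ⟨n, hn, e'⟩ := trans_B x0_ok.1
    refine ⟨⟨m * n⁻¹, mul_mem hm (inv_mem hn)⟩, ?_⟩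
    show m (n⁻¹ x0) = v
    rw [Equiv.Perm.inv_eq_iff_eq.mpr e'.symm, e]
  have Pmem : ∀ m x, Rel G a b a x → Rel G a b a (P m x) := fun m x hx => by
    have := hx.map (hP.mem m)
    rwa [hP.fix] at this
  have hex : ∀ v, InB v → ∃ x, Rel G a b a x ∧ T x = stdT v := by
    intro v hv
    obtain ⟨m, rfl⟩ := moveB v hv
    exact ⟨P m x', Pmem m x' hx', by rw [Tmap, hT0, stdMap]⟩
  choose β hβB hβT using hex
  have βbij : ∀ x, Rel G a b a x → ∃ v, ∃ hv : InB v, β v hv = x := by
    have hinj : ∀ v w (hv : InB v) (hw : InB w), β v hv = β w hw → v = w := fun v w hv hw e =>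
      B_separated hv hw fun i => Set.ext_iff.mp ((hβT v hv).symm.trans ((congrArg T e).trans (hβT w hw))) i
    let f : {v // InB v} → {x // Rel G a b a x} := fun v => ⟨β v.1 v.2, hβB v.1 v.2⟩
    have hf : Function.Bijective f := (Nat.bijective_iff_injective_and_card f).mpr
      ⟨fun v w e => Subtype.ext (hinj _ _ _ _ (congrArg Subtype.val e)), by
        rw [show Nat.card {v // InB v} = 416 from (Nat.card_coe_set_eq _).trans card_InB,
          show Nat.card {y // Rel G a b a y} = 416 from (Nat.card_coe_set_eq _).trans h.cardB]⟩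
    intro x hx
    obtain ⟨⟨v, hv⟩, e⟩ := hf.2 ⟨x, hx⟩
    exact ⟨v, hv, congrArg Subtype.val e⟩
  have Tinj : ∀ x y, Rel G a b a x → Rel G a b a y → T x = T y → x = y := by
    intro x y hx hy e
    obtain ⟨v, hv, rfl⟩ := βbij x hx
    obtain ⟨w, hw, rfl⟩ := βbij y hy
    rw [hβT, hβT] at e
    obtain rfl := B_separated hv hw fun i => Set.ext_iff.mp e i
    rfl
  let p : V → Ω := fun v => if hv : InB v then β v hv else if hC : InC v then γ (exists_lineP hC).choose else a
  have pB : ∀ v (hv : InB v), p v = β v hv := fun v hv => dif_pos hv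
  have pC : ∀ i, p (lineP i) = γ i := fun i => by
    simp only [p, dif_neg (lineP_InC i).2, dif_pos (lineP_InC i)]
    congr 1
    exact lineP_injective (exists_lineP (lineP_InC i)).choose_spec
  have p0 : p 0 = a := by
    have : ¬ InC 0 := fun hh => hh.1 rfl
    simp [p, zero_notB, this]
  have pinj : Function.Injective p := by
    intro v w e
    rcases classify v with rfl | hv | hv <;> rcases classify w with rfl | hw | hw
    · rfl
    · rw [p0, pB w hw] at e
      exact absurd (e ▸ hβB w hw) (not_rel_self h a)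
    · obtain ⟨i, rfl⟩ := exists_lineP hw
      rw [p0, pC] at e
      exact absurd (e ▸ L.mem i) (not_C_self h)
    · rw [p0, pB v hv] at e
      exact absurd (e.symm ▸ hβB v hv) (not_rel_self h a)
    · rw [pB v hv, pB w hw] at e
      exact B_separated hv hw fun i => Set.ext_iff.mp ((hβT v hv).symm.trans ((congrArg T e).trans (hβT w hw))) i
    · obtain ⟨i, rfl⟩ := exists_lineP hw
      rw [pB v hv, pC] at e
      exact (disjoint_BC h (hβB v hv) (e ▸ L.mem i)).elim
    · obtain ⟨i, rfl⟩ := exists_lineP hv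
      rw [p0, pC] at e
      exact absurd (e.symm ▸ L.mem i) (not_C_self h)
    · obtain ⟨i, rfl⟩ := exists_lineP hv
      rw [pB w hw, pC] at e
      exact (disjoint_BC h (hβB w hw) (e.symm ▸ L.mem i)).elim
    · obtain ⟨i, rfl⟩ := exists_lineP hv
      obtain ⟨j, rfl⟩ := exists_lineP hw
      rw [pC, pC] at e
      rw [L.inj e]
  have pbij : Function.Bijective p :=
    (Fintype.bijective_iff_injective_and_card p).mpr ⟨pinj, by rw [h.card, Fintype.card_fin]⟩
  have hlift : ∀ (m : M0) v, P m (p v) = p ((m : Equiv.Perm V) v) := by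
    intro m v
    rcases classify v with rfl | hv | hv
    · rw [p0, hP.fix, M0_zero m.2, p0]
    · rw [pB v hv, pB _ ((inB_M0 m.2).mpr hv)]
      refine Tinj _ _ (Pmem m _ (hβB v hv)) (hβB _ _) ?_
      rw [Tmap, hβT, hβT, stdMap]
    · obtain ⟨i, rfl⟩ := exists_lineP hv
      rw [pC, L.equiv, ← lineP_actL, pC]
      rfl
  have hBx : p x0 = x' := by
    rw [pB x0 x0_ok.1]
    exact Tinj _ _ (hβB _ _) hx' (by rw [hβT, hT0])
  have hx0B : ∀ v, InB v → (Rel G a b x' (p v) ↔ AdjS x0 v) := by
    set R : Set V := {v | InB v ∧ Rel G a b x' (p v)} with hR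
    set A : Set V := {v | InB v ∧ AdjS x0 v} with hA
    set F : Set V := {v | InB v ∧ v ≠ x0 ∧ ¬ AdjS x0 v} with hF
    have cA : A.ncard = 100 := card_near_x0
    have hx0R : x0 ∉ R := fun hh => not_rel_self h x' (by have := hh.2; rwa [hBx] at this)
    have cR : R.ncard = 100 := by
      rw [← hlam a x' hx', ← Set.ncard_image_of_injective R pinj]
      congr 1
      ext y
      constructor
      · rintro ⟨v, ⟨hv, hr⟩, rfl⟩
        exact ⟨pB v hv ▸ hβB v hv, hr⟩
      · rintro ⟨hy, hr⟩
        obtain ⟨v, hv, rfl⟩ := βbij y hy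
        exact ⟨v, ⟨hv, by rw [pB v hv]; exact hr⟩, pB v hv⟩
    have cF : F.ncard = 315 := by
      have hd : {v | InB v} = insert x0 (A ∪ F) := by
        ext v
        simp only [hA, hF, Set.mem_insert_iff, Set.mem_union, Set.mem_ofPred_eq]
        constructor
        · intro hv; by_cases e : v = x0 <;> by_cases e' : AdjS x0 v <;> simp [hv, e, e']
        · rintro (rfl | ⟨hv, -⟩ | ⟨hv, -, -⟩)
          exacts [x0_ok.1, hv, hv]
      have h416 := card_InB
      rw [hd, Set.ncard_insert_of_notMem (fun hh => hh.elim (fun h1 => not_adj_self _ h1.2) fun h1 => h1.2.1 rfl),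
        Set.ncard_union_eq (Set.disjoint_left.mpr fun v h1 h2 => h2.2.2 h1.2), cA] at h416
      omega
    have move : ∀ v w, InB v → InB w → v ≠ x0 → w ≠ x0 → (AdjS x0 v ↔ AdjS x0 w) → v ∈ R → w ∈ R := by
      intro v w hv hw h1 h2 hiff hvR
      obtain ⟨m, hm, e0, e1⟩ := stab_trans hv hw h1 h2 hiff
      refine ⟨hw, ?_⟩
      have hfix : P ⟨m, hm⟩ x' = x' := by rw [← hBx, hlift]; show p (m x0) = p x0; rw [e0]
      have := (rel_P h hP hL L ⟨m, hm⟩).mpr hvR.2
      rw [hfix, hlift] at this
      rwa [show ((⟨m, hm⟩ : M0) : Equiv.Perm V) v = w from e1] at this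
    have hsub : R ⊆ A := by
      intro v hv
      refine ⟨hv.1, by_contra fun hn => ?_⟩
      have hvne : v ≠ x0 := fun e => hx0R (e ▸ hv)
      have : F ⊆ R := fun w hw => move v w hv.1 hw.1 hvne hw.2.1 (iff_of_false hn hw.2.2) hv
      have := Set.ncard_le_ncard this
      omega
    have hRA : R = A := Set.eq_of_subset_of_ncard_le hsub (by rw [cR, cA])
    intro v hv
    have := Set.ext_iff.mp hRA v
    simpa [hR, hA, hv] using this
  refine ⟨Equiv.ofBijective p pbij, p0, ?_, fun g hg ga => ?_⟩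
  · intro i j
    show Rel G a b (p i) (p j) ↔ AdjS i j
    have h0 : ∀ j, Rel G a b a (p j) ↔ AdjS 0 j := by
      intro j
      rw [adj_zero]
      rcases classify j with rfl | hj | hj
      · rw [p0]; exact iff_of_false (not_rel_self h a) zero_notB
      · rw [pB j hj]; exact iff_of_true (hβB j hj) hj
      · obtain ⟨k, rfl⟩ := exists_lineP hj
        rw [pC]
        exact iff_of_false (fun hr => disjoint_BC h hr (L.mem k)) (lineP_InC k).2
    have hsym : ∀ x y, Rel G a b x y ↔ Rel G a b y x := fun x y => ⟨rel_symm h, rel_symm h⟩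
    have hCB : ∀ k v, InB v → (Rel G a b (γ k) (p v) ↔ AdjS (lineP k) v) := fun k v hv => by
      rw [pB v hv]
      exact Set.ext_iff.mp (hβT v hv) k
    rcases classify i with rfl | hi | hi
    · rw [p0]; exact h0 j
    · rcases classify j with rfl | hj | hj
      · rw [p0, hsym, adj_comm]; exact h0 i
      · obtain ⟨m, rfl⟩ := moveB i hi
        obtain ⟨w, hw, rfl⟩ : ∃ w, InB w ∧ (m : Equiv.Perm V) w = j :=
          ⟨(m : Equiv.Perm V)⁻¹ j, (inB_M0 (inv_mem m.2)).mpr hj, by simp⟩
        rw [← hlift, ← hlift, rel_P h hP hL L, adj_M (M0_le_M m.2), hBx]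
        exact hx0B w hw
      · obtain ⟨k, rfl⟩ := exists_lineP hj
        rw [pC, hsym, adj_comm]
        exact hCB k i hi
    · obtain ⟨k, rfl⟩ := exists_lineP hi
      rw [pC]
      rcases classify j with rfl | hj | hj
      · rw [p0, hsym, adj_comm, ← pC]; exact h0 _
      · exact hCB k j hj
      · obtain ⟨l, rfl⟩ := exists_lineP hj
        rw [pC, hTwo]
        exact two_adj k l
  · obtain ⟨m, rfl⟩ := hP.surj g hg ga
    exact ⟨m, m.2, fun v => hlift m v⟩

end

end CfsgLib.SuzRankThree
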