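import Cfsg.Agent.SuzRankThree.Geo
import Cfsg.Agent.SuzRankThree.DataLocal

/-!
# Subgroups of index 1365 of the point stabiliser

A Sylow two-subgroup of such a subgroup fixes an incident pair. The subgroup then fixes the line or the point, since
otherwise it contains two opposite root groups for both fundamental reflections.
-/

set_option autoImplicit false
set_option maxRecDepth 100000
set_option maxHeartbeats 1000000
set_option linter.style.haveILetI false
set_option Elab.async false

namespace CfsgLib.SuzRankThree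

open CfsgLib.Coset MulAction

attribute [local irreducible] lineV lineIx lineT pointT linesOn pointsOn maskB Suz.Top.Tb uTree1 uTree2 flagTree

/-- The element of a word. -/
noncomputable def wM (w : List ℕ) : M0 := if h : LettersH w then ⟨wperm w, wperm_mem h⟩ else 1

theorem wM_val {w : List ℕ} (h : LettersH w) : (wM w : Equiv.Perm V) = wperm w := by rw [wM, dif_pos h]

theorem wM_def {w : List ℕ} (h : LettersH w) : wM w = ⟨wperm w, wperm_mem h⟩ := by rw [wM, dif_pos h]

theorem LettersH.append {u v : List ℕ} (hu : LettersH u) (hv : LettersH v) : LettersH (u ++ v) :=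
  fun l hl => (List.mem_append.mp hl).elim (hu l) (hv l)

theorem LettersH.rev {u : List ℕ} (hu : LettersH u) : LettersH u.reverse := fun l hl => hu l (List.mem_reverse.mp hl)

theorem wM_append {u v : List ℕ} (hu : LettersH u) (hv : LettersH v) : wM (u ++ v) = wM v * wM u :=
  Subtype.ext (by rw [Subgroup.coe_mul, wM_val (hu.append hv), wM_val hu, wM_val hv, wperm_append])

theorem wM_reverse {u : List ℕ} (hu : LettersH u) : wM u.reverse = (wM u)⁻¹ :=
  Subtype.ext (by rw [Subgroup.coe_inv, wM_val hu.rev, wM_val hu, wperm_reverse])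

theorem wM_congr {u v : List ℕ} (hu : LettersH u) (hv : LettersH v) (h : sameW u v = true) : wM u = wM v :=
  Subtype.ext (by rw [wM_val hu, wM_val hv, wperm_congr hu.ok hv.ok h])

theorem wM_nil : wM [] = 1 := by
  rw [wM_def (by decide)]; exact Subtype.ext wperm_nil

theorem actL_wM {w : List ℕ} (hw : LettersH w) (i : I) : (actL (wM w) i).val = follow ltab i.val w := by
  rw [wM_def hw, follow_line hw]

theorem actP_wM {w : List ℕ} (hw : LettersH w) (i : I) : (actP (wM w) i).val = follow ptab i.val w := by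
  rw [wM_def hw, follow_point hw]

theorem closure_gens : Subgroup.closure (Set.range fun l : Fin 6 => wM [l.val]) = ⊤ := by
  rw [eq_top_iff]
  rintro ⟨m, hm⟩ -
  have : m ∈ M0 ∧ ∀ h : m ∈ M0, (⟨m, h⟩ : M0) ∈ Subgroup.closure (Set.range fun l : Fin 6 => wM [l.val]) := by
    refine M0_induction (p := fun m => m ∈ M0 ∧ ∀ h : m ∈ M0,
      (⟨m, h⟩ : M0) ∈ Subgroup.closure (Set.range fun l : Fin 6 => wM [l.val])) (fun l hl => ?_)
      ⟨one_mem _, fun _ => one_mem _⟩ ?_ m hm
    · have hl' : LettersH [l] := fun x hx => by simp only [List.mem_singleton] at hx; omega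
      exact ⟨wperm_mem hl', fun _ => Subgroup.subset_closure ⟨⟨l, hl⟩, wM_def hl'⟩⟩
    · rintro x y ⟨hx, hx'⟩ ⟨hy, hy'⟩
      exact ⟨mul_mem hx hy, fun _ => mul_mem (hx' hx) (hy' hy)⟩
  exact this.2 hm

theorem card_M0_sub : Nat.card (⊤ : Subgroup M0) = 251596800 := by
  rw [Nat.card_congr Subgroup.topEquiv.toEquiv, card_M0]

/-- A lower bound from a list of images. -/
theorem le_card (S : Subgroup M0) (x : V) {pts : List ℕ} (hnd : pts.Nodup)
    (h : ∀ v ∈ pts, ∃ m ∈ S, ((m : Equiv.Perm V) x).val = v) {k : ℕ}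
    (hk : k ≤ Nat.card (S ⊓ stabilizer M0 x : Subgroup M0)) : pts.length * k ≤ Nat.card S := by
  classical
  rw [← (stabilizer S x).index_mul_card, index_stabilizer]
  refine Nat.mul_le_mul ?_ (hk.trans (le_of_eq (Nat.card_congr
    { toFun := fun m => ⟨⟨m.1, m.2.1⟩, m.2.2⟩
      invFun := fun m => ⟨m.1.1, m.1.2, m.2⟩
      left_inv := fun _ => rfl
      right_inv := fun _ => rfl })))
  rw [← List.toFinset_card_of_nodup hnd, ← Set.ncard_coe_finset,
    ← Set.ncard_image_of_injective (orbit S x) Fin.val_injective]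
  refine Set.ncard_le_ncard ?_
  intro v hv
  obtain ⟨m, hm, e⟩ := h v (List.mem_toFinset.mp hv)
  exact ⟨_, ⟨⟨m, hm⟩, rfl⟩, e⟩

/-! ### The series -/

/-- The word of a product. -/
def prodW (ks : List ℕ) : List ℕ := ks.flatMap fun k => pcW.getD k []

/-- A member of the series. -/
noncomputable def pcS (k : ℕ) : Subgroup M0 := Subgroup.closure {x | ∃ j, k ≤ j ∧ j < 12 ∧ x = wM (pcW.getD j [])}

theorem pcW_letters : ∀ j, LettersH (pcW.getD j []) := by
  intro j
  rcases lt_or_ge j 12 with hj | hj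
  · exact (by decide +kernel : ∀ j : Fin 12, LettersH (pcW.getD j.val [])) ⟨j, hj⟩
  · rw [List.getD_eq_default _ _ (by rw [show pcW.length = 12 by decide +kernel]; exact hj)]
    decide

theorem prodW_mem {k : ℕ} : ∀ {ks : List ℕ}, (∀ j ∈ ks, k ≤ j ∧ j < 12) →
    LettersH (prodW ks) ∧ wM (prodW ks) ∈ pcS k
  | [], _ => ⟨by decide, by rw [show prodW [] = [] from rfl, wM_nil]; exact one_mem _⟩
  | j :: ks, h => by
    obtain ⟨h1, h2⟩ := prodW_mem (ks := ks) fun x hx => h x (List.mem_cons_of_mem _ hx)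
    have e : prodW (j :: ks) = pcW.getD j [] ++ prodW ks := by simp [prodW]
    rw [e]
    refine ⟨(pcW_letters j).append h1, ?_⟩
    rw [wM_append (pcW_letters j) h1]
    have hj := h j (List.mem_cons_self ..)
    exact mul_mem h2 (Subgroup.subset_closure ⟨j, hj.1, hj.2, rfl⟩)

/-- A word is the given product. -/
noncomputable def isProd (k : ℕ) (w ks : List ℕ) : Bool :=
  decide (LettersH w) && ks.all (fun j => decide (k ≤ j ∧ j < 12)) && sameW w (prodW ks)

theorem isProd_mem {k : ℕ} {w ks : List ℕ} (h : isProd k w ks = true) : LettersH w ∧ wM w ∈ pcS k := by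
  simp only [isProd, Bool.and_eq_true, decide_eq_true_eq, List.all_eq_true] at h
  obtain ⟨h1, h2⟩ := prodW_mem (ks := ks) h.1.2
  exact ⟨h.1.1, by rw [wM_congr h.1.1 h1 h.2]; exact h2⟩

theorem pc_ok : ((List.range 12).all fun k =>
    isProd (k + 1) (pcW.getD k [] ++ pcW.getD k []) (pcSq.getD k []) &&
    ((List.range (11 - k)).all fun j => isProd (k + 1)
      (pcW.getD k [] ++ pcW.getD (k + 1 + j) [] ++ (pcW.getD k []).reverse) ((pcConj.getD k []).getD j []))) = true := by
  decide +kernel

theorem pcS_mono {k : ℕ} : pcS (k + 1) ≤ pcS k :=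
  Subgroup.closure_mono fun _ ⟨j, h1, h2, e⟩ => ⟨j, by omega, h2, e⟩

theorem card_pcS_step {k : ℕ} (hk : k < 12) : Nat.card (pcS k) ≤ 2 * Nat.card (pcS (k + 1)) := by
  classical
  have h := List.all_eq_true.mp pc_ok k (List.mem_range.mpr hk)
  simp only [Bool.and_eq_true, List.all_eq_true, List.mem_range] at h
  set u := wM (pcW.getD k []) with hu
  have hsq : u * u ∈ pcS (k + 1) := by
    have := (isProd_mem h.1).2
    rwa [wM_append (pcW_letters k) (pcW_letters k)] at this
  have hconj : ∀ y ∈ pcS (k + 1), u⁻¹ * y * u ∈ pcS (k + 1) := by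
    intro y hy
    induction hy using Subgroup.closure_induction with
    | mem y hy =>
      obtain ⟨j, h1, h2, rfl⟩ := hy
      have := (isProd_mem (h.2 (j - (k + 1)) (by omega))).2
      rw [show k + 1 + (j - (k + 1)) = j by omega, wM_append ((pcW_letters k).append (pcW_letters j))
        (pcW_letters k).rev, wM_append (pcW_letters k) (pcW_letters j), wM_reverse (pcW_letters k), ← mul_assoc] at this
      exact this
    | one => simp
    | mul y z _ _ hy hz => simpa [mul_assoc] using mul_mem hy hz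
    | inv y _ hy => simpa [mul_assoc] using inv_mem hy
  have key : ∀ x ∈ pcS k, x ∈ pcS (k + 1) ∨ u⁻¹ * x ∈ pcS (k + 1) := by
    intro x hx
    rw [pcS, ← Subgroup.mem_toSubmonoid, Subgroup.closure_toSubmonoid_of_finite] at hx
    induction hx using Submonoid.closure_induction with
    | mem x hx =>
      obtain ⟨j, h1, h2, rfl⟩ := hx
      rcases eq_or_lt_of_le h1 with rfl | h1
      · exact Or.inr (by rw [← hu]; simp)
      · exact Or.inl (Subgroup.subset_closure ⟨j, h1, h2, rfl⟩)
    | one => exact Or.inl (one_mem _)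
    | mul x y _ _ hx hy =>
      rcases hx with hx | hx <;> rcases hy with hy | hy
      · exact Or.inl (mul_mem hx hy)
      · refine Or.inr ?_
        rw [show u⁻¹ * (x * y) = (u⁻¹ * x * u) * (u⁻¹ * y) by group]
        exact mul_mem (hconj _ hx) hy
      · refine Or.inr ?_
        rw [show u⁻¹ * (x * y) = (u⁻¹ * x) * y by group]
        exact mul_mem hx hy
      · refine Or.inl ?_
        rw [show x * y = (u * u) * (u⁻¹ * (u⁻¹ * x) * u) * (u⁻¹ * y) by group]
        exact mul_mem (mul_mem hsq (hconj _ hx)) hy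
  let f : pcS k → Bool × pcS (k + 1) := fun x =>
    if hx : (x : M0) ∈ pcS (k + 1) then (false, ⟨x, hx⟩) else (true, ⟨u⁻¹ * x, (key x x.2).resolve_left hx⟩)
  have hf : Function.Injective f := by
    intro x y e
    by_cases hx : (x : M0) ∈ pcS (k + 1) <;> by_cases hy : (y : M0) ∈ pcS (k + 1) <;>
      simp only [f, hx, hy, dite_true, dite_false, Prod.mk.injEq, Subtype.mk.injEq] at e
    · exact Subtype.ext e.2
    · exact absurd e.1 (by decide)
    · exact absurd e.1 (by decide)
    · exact Subtype.ext (mul_left_cancel e.2)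
  refine (Nat.card_le_card_of_injective f hf).trans ?_
  simp [Nat.card_prod]

/-- The local two-subgroup. -/
noncomputable def U : Subgroup M0 := pcS 0

theorem card_U_le : Nat.card U ≤ 4096 := by
  have : ∀ i ≤ 12, Nat.card (pcS (12 - i)) ≤ 2 ^ i := by
    intro i hi
    induction i with
    | zero =>
      have : pcS 12 = ⊥ := by
        rw [pcS, Subgroup.closure_eq_bot_iff]
        rintro x ⟨j, h1, h2, -⟩; omega
      simp [this]
    | succ i ih =>
      refine (card_pcS_step (k := 12 - (i + 1)) (by omega)).trans ?_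
      rw [show 12 - (i + 1) + 1 = 12 - i by omega, pow_succ, mul_comm (2 ^ i)]
      exact Nat.mul_le_mul_left 2 (ih (by omega))
  exact (this 12 le_rfl).trans (by norm_num)

theorem uGens_ok : ((List.range uGens.length).all fun i => isProd 0 (uGens.getD i []) (uGensPc.getD i [])) = true := by
  decide +kernel

theorem uGens_mem {w : List ℕ} (hw : w ∈ uGens) : LettersH w ∧ wM w ∈ U := by
  obtain ⟨i, hi, rfl⟩ := List.getElem_of_mem hw
  have h := List.all_eq_true.mp uGens_ok i (List.mem_range.mpr hi)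
  rw [List.getD_eq_getElem _ _ hi] at h
  exact isProd_mem h

theorem uStab_ok : ((List.range uStab.length).all fun i => isProd 0 (uStab.getD i []) (uStabPc.getD i []) &&
    app (uStab.getD i []) 2 == 2) = true := by decide +kernel

theorem uTree1_ok : treeOK (tget Suz.Top.Tb) 2 1024 uGens uTree1 = true := by decide +kernel

theorem uTree2_ok : treeOK (tget Suz.Top.Tb) 160 4 uStab uTree2 = true := by decide +kernel

theorem card_U : Nat.card U = 4096 := by
  refine le_antisymm card_U_le ?_
  have key : ∀ (S : Subgroup M0) (gens : List (List ℕ)), (∀ w ∈ gens, LettersH w ∧ wM w ∈ S) →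
      ∀ (x : V) (i : ℕ), (∃ m ∈ S, ((m : Equiv.Perm V) x).val = i) → ∀ w ∈ gens,
      ∃ m ∈ S, ((m : Equiv.Perm V) x).val = follow (tget Suz.Top.Tb) i w := by
    rintro S gens hg x i ⟨m, hm, rfl⟩ w hw
    refine ⟨wM w * m, mul_mem (hg w hw).2 hm, ?_⟩
    rw [Subgroup.coe_mul, Equiv.Perm.mul_apply, wM_val (hg w hw).1, wperm_apply (hg w hw).1.ok]
    rfl
  have hs : ∀ w ∈ uStab, LettersH w ∧ wM w ∈ U ⊓ stabilizer M0 (2 : V) := by
    intro w hw
    obtain ⟨i, hi, rfl⟩ := List.getElem_of_mem hw
    have h := List.all_eq_true.mp uStab_ok i (List.mem_range.mpr hi)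
    rw [List.getD_eq_getElem _ _ hi, Bool.and_eq_true, beq_iff_eq] at h
    obtain ⟨h1, h2⟩ := isProd_mem h.1
    refine ⟨h1, h2, Fin.ext ?_⟩
    show ((wM uStab[i] : Equiv.Perm V) 2).val = _
    rw [wM_val h1, wperm_apply h1.ok]
    exact h.2
  have h2 := le_card (U ⊓ stabilizer M0 (2 : V)) 160 (tree_nodup uTree2_ok)
    (tree_spec uTree2_ok ⟨1, one_mem _, rfl⟩ fun w hw i hi => key _ _ hs _ i hi w hw) (k := 1) Nat.card_pos
  have h1 := le_card U 2 (tree_nodup uTree1_ok)
    (tree_spec uTree1_ok ⟨1, one_mem _, rfl⟩ fun w hw i hi => key _ _ (fun w => uGens_mem) _ i hi w hw) h2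
  simp only [treePts, List.length_map, List.length_range] at h1
  omega

/-! ### Incident pairs -/

/-- An incident pair. -/
abbrev Flag : Type := {f : I × I // Inc f.1 f.2}

noncomputable instance : MulAction M0 Flag where
  smul m f := ⟨(actL m f.1.1, actP m f.1.2), (inc_act m).mpr f.2⟩
  one_smul f := Subtype.ext (by show (actL 1 f.1.1, actP 1 f.1.2) = _; simp)
  mul_smul m n f := Subtype.ext (by show (actL (m * n) _, actP (m * n) _) = _; simp [map_mul]; rfl)

theorem smul_flag (m : M0) (f : Flag) : (m • f).1 = (actL m f.1.1, actP m f.1.2) := rfl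

/-- The base pair. -/
def flag0 : Flag := ⟨(0, 0), by decide +kernel⟩

theorem card_Flag : Nat.card Flag = 6825 := by
  classical
  have e : Flag ≃ Σ p : I, {i // i ∈ pencil p} :=
    { toFun := fun f => ⟨f.1.2, f.1.1, mem_pencil.mpr f.2⟩
      invFun := fun s => ⟨(s.2.1, s.1), mem_pencil.mp s.2.2⟩
      left_inv := fun _ => rfl
      right_inv := fun _ => rfl }
  rw [Nat.card_congr e, Nat.card_sigma]
  simp [card_pencil]

/-- The line of a numbered pair. -/
def flagLine (f : ℕ) : ℕ := getA linesOn (5 * (f / 5) + f % 5)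

theorem flagTree_ok : ((List.range 6825).all fun f =>
    if getA flagTree (3 * f) = 0 then decide (getA flagTree (3 * f + 2) < 12) &&
      follow ltab 0 (rootW.getD (getA flagTree (3 * f + 2)) []) == flagLine f &&
      follow ptab 0 (rootW.getD (getA flagTree (3 * f + 2)) []) == f / 5
    else decide (getA flagTree (3 * f + 1) < 6825 ∧ getA flagTree (3 * getA flagTree (3 * f + 1)) < getA flagTree (3 * f) ∧
        getA flagTree (3 * f + 2) < uGens.length) &&
      follow ltab (flagLine (getA flagTree (3 * f + 1))) (uGens.getD (getA flagTree (3 * f + 2)) []) == flagLine f &&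
      follow ptab (getA flagTree (3 * f + 1) / 5) (uGens.getD (getA flagTree (3 * f + 2)) []) == f / 5) = true := by
  decide +kernel

theorem rootW_letters : ∀ j : Fin 12, LettersH (rootW.getD j.val []) := by decide +kernel

/-- The representative of an orbit of the local two-subgroup. -/
noncomputable def root (j : Fin 12) : M0 := wM (rootW.getD j.val [])

theorem cover (f : Flag) : ∃ u ∈ U, ∃ j : Fin 12, f = (u * root j) • flag0 := by
  have key : ∀ r n, n < 6825 → getA flagTree (3 * n) = r → ∀ g : Flag, g.1.1.val = flagLine n → g.1.2.val = n / 5 →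
      ∃ u ∈ U, ∃ j : Fin 12, g = (u * root j) • flag0 := by
    intro r
    induction r using Nat.strong_induction_on with
    | _ r ih =>
      intro n hn hr g g1 g2
      have h := List.all_eq_true.mp flagTree_ok n (List.mem_range.mpr hn)
      split_ifs at h with h0
      · simp only [Bool.and_eq_true, decide_eq_true_eq, beq_iff_eq] at h
        refine ⟨1, one_mem _, ⟨_, h.1.1⟩, Subtype.ext ?_⟩
        rw [one_mul, smul_flag]
        exact Prod.ext
          (Fin.ext (by rw [g1, root, actL_wM (rootW_letters ⟨_, h.1.1⟩)]; exact h.1.2.symm))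
          (Fin.ext (by rw [g2, root, actP_wM (rootW_letters ⟨_, h.1.1⟩)]; exact h.2.symm))
      · simp only [Bool.and_eq_true, decide_eq_true_eq, beq_iff_eq] at h
        obtain ⟨⟨⟨hp, hlt, hg⟩, e1⟩, e2⟩ := h
        set p := getA flagTree (3 * n + 1)
        obtain ⟨hw, hwU⟩ := uGens_mem (List.getD_eq_getElem uGens [] hg ▸ List.getElem_mem hg :
          uGens.getD (getA flagTree (3 * n + 2)) [] ∈ uGens)
        set w := uGens.getD (getA flagTree (3 * n + 2)) []
        have hl : flagLine p ∈ linesAt (p / 5) :=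
          List.mem_map.mpr ⟨p % 5, List.mem_range.mpr (Nat.mod_lt _ (by norm_num)), rfl⟩
        have hp5 : p / 5 < 1365 := by omega
        have hlt' : flagLine p < 1365 := by
          have hall := List.all_eq_true.mp linesAt_ok (p / 5) (List.mem_range.mpr hp5)
          simp only [Bool.and_eq_true, List.all_eq_true, decide_eq_true_eq] at hall
          exact (hall.1.1.1 _ hl).1
        obtain ⟨u, hu, j, hj⟩ := ih _ (hr ▸ hlt) p hp rfl ⟨(⟨_, hlt'⟩, ⟨_, hp5⟩), hl⟩ rfl rfl
        refine ⟨wM w * u, mul_mem hwU hu, j, ?_⟩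
        rw [mul_assoc, mul_smul, ← hj]
        exact Subtype.ext (Prod.ext (Fin.ext (by rw [g1, smul_flag, actL_wM hw]; exact e1.symm))
          (Fin.ext (by rw [g2, smul_flag, actP_wM hw]; exact e2.symm)))
  obtain ⟨k, hk, e⟩ : ∃ k < 5, getA linesOn (5 * f.1.2.val + k) = f.1.1.val := by
    have := f.2
    simpa [Inc, linesAt] using this
  refine key _ (5 * f.1.2.val + k) (by omega) rfl f ?_ (by omega)
  rw [flagLine, show (5 * f.1.2.val + k) / 5 = f.1.2.val by omega,
    show (5 * f.1.2.val + k) % 5 = k by omega, e]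

theorem orbit_flag0 : orbit M0 flag0 = Set.univ :=
  Set.eq_univ_of_forall fun f => by
    obtain ⟨u, -, j, rfl⟩ := cover f
    exact ⟨_, rfl⟩

theorem card_B0 : Nat.card (stabilizer M0 flag0) = 36864 := by
  have h := (stabilizer M0 flag0).card_mul_index
  rw [index_stabilizer, orbit_flag0, Set.ncard_univ, card_Flag, card_M0] at h
  omega

theorem pc_fix : ((List.range 12).all fun k =>
    follow ltab 0 (pcW.getD k []) == 0 && follow ptab 0 (pcW.getD k []) == 0) = true := by decide +kernel

theorem tor_ok : (torW.all fun t => decide (LettersH t) && follow ltab 0 t == 0 && follow ptab 0 t == 0 &&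
    sameW (t ++ t ++ t) []) && sameW (torW.getD 0 [] ++ torW.getD 1 []) (torW.getD 1 [] ++ torW.getD 0 []) &&
    decide (torW.length = 2) &&
    ((List.range 2).all fun i => (List.range 12).all fun k =>
      isProd 0 ((torW.getD i []).reverse ++ pcW.getD k [] ++ torW.getD i []) ((torConj.getD i []).getD k [])) = true := by
  decide +kernel

/-- The word of a power product of the two elements of order three. -/
def torProd (a b : ℕ) : List ℕ :=
  (List.replicate a (torW.getD 0 [])).flatten ++ (List.replicate b (torW.getD 1 [])).flatten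

theorem tor_distinct : ((List.range 9).all fun i => (List.range 9).all fun j =>
    i == j || !sameW (torProd (i % 3) (i / 3)) (torProd (j % 3) (j / 3))) = true := by decide +kernel

theorem wM_pow {w : List ℕ} (hw : LettersH w) : ∀ n, LettersH (List.replicate n w).flatten ∧
    wM (List.replicate n w).flatten = wM w ^ n
  | 0 => ⟨by simp [LettersH], by simp [wM_nil]⟩
  | n + 1 => by
    obtain ⟨h1, h2⟩ := wM_pow hw n
    rw [List.replicate_succ, List.flatten_cons, pow_succ, ← h2]
    exact ⟨hw.append h1, wM_append hw h1⟩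

theorem U_le_B0 : U ≤ stabilizer M0 flag0 := by
  rw [U, pcS, Subgroup.closure_le]
  rintro x ⟨j, -, hj, rfl⟩
  have h := List.all_eq_true.mp pc_fix j (List.mem_range.mpr hj)
  simp only [Bool.and_eq_true, beq_iff_eq] at h
  exact Subtype.ext (Prod.ext (Fin.ext ((actL_wM (pcW_letters j) _).trans h.1))
    (Fin.ext ((actP_wM (pcW_letters j) _).trans h.2)))

theorem B0_structure : (∀ x ∈ stabilizer M0 flag0, ∀ u ∈ U, x * u * x⁻¹ ∈ U) ∧
    ∀ x ∈ stabilizer M0 flag0, x ^ 4096 = 1 → x ∈ U := by
  classical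
  have h := tor_ok
  simp only [Bool.and_eq_true, List.all_eq_true, decide_eq_true_eq, beq_iff_eq, List.mem_range] at h
  obtain ⟨⟨⟨hall, hcomm⟩, hlen⟩, hnorm⟩ := h
  have hmem : ∀ i < 2, torW.getD i [] ∈ torW := fun i hi => by
    rw [List.getD_eq_getElem _ _ (by omega)]; exact List.getElem_mem _
  set s := wM (torW.getD 0 []) with hs
  set t := wM (torW.getD 1 []) with ht
  have l0 := (hall _ (hmem 0 (by norm_num))).1.1.1
  have l1 := (hall _ (hmem 1 (by norm_num))).1.1.1
  have cube : ∀ i < 2, wM (torW.getD i []) ^ 3 = 1 := by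
    intro i hi
    obtain ⟨⟨⟨hl, -⟩, -⟩, h3⟩ := hall _ (hmem i hi)
    have := wM_congr ((hl.append hl).append hl) (show LettersH [] by decide) h3
    rw [wM_append (hl.append hl) hl, wM_append hl hl, wM_nil] at this
    rw [pow_succ, pow_two, mul_assoc]; exact this
  have hst : Commute s t := by
    have := wM_congr (l0.append l1) (l1.append l0) hcomm
    rw [wM_append l0 l1, wM_append l1 l0] at this
    exact this.symm
  have inB0 : ∀ i < 2, wM (torW.getD i []) ∈ stabilizer M0 flag0 := by
    intro i hi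
    obtain ⟨⟨⟨hl, e1⟩, e2⟩, -⟩ := hall _ (hmem i hi)
    exact Subtype.ext (Prod.ext (Fin.ext ((actL_wM hl _).trans e1)) (Fin.ext ((actP_wM hl _).trans e2)))
  have conjU : ∀ i < 2, ∀ u ∈ U, wM (torW.getD i []) * u * (wM (torW.getD i []))⁻¹ ∈ U := by
    intro i hi u hu
    induction hu using Subgroup.closure_induction with
    | mem u hu =>
      obtain ⟨j, -, hj, rfl⟩ := hu
      have hl := (hall _ (hmem i hi)).1.1.1
      have := (isProd_mem (hnorm i hi j hj)).2
      rw [wM_append (hl.rev.append (pcW_letters j)) hl, wM_append hl.rev (pcW_letters j), wM_reverse hl,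
        ← mul_assoc] at this
      exact this
    | one => simp
    | mul y z _ _ hy hz => simpa [U, mul_assoc] using mul_mem hy hz
    | inv y _ hy => simpa [U, mul_assoc] using inv_mem hy
  have hU3 : ∀ x ∈ U, x ^ 3 = 1 → x = 1 := by
    intro x hx h3
    have h1 : orderOf x ∣ 3 := orderOf_dvd_of_pow_eq_one h3
    have h2 : orderOf x ∣ 4096 := card_U ▸ Subgroup.orderOf_dvd_natCard U hx
    exact orderOf_eq_one_iff.mp (Nat.eq_one_of_dvd_one (Nat.dvd_gcd h1 h2))
  let τ : Fin 9 → M0 := fun i => s ^ (i.val % 3) * t ^ (i.val / 3)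
  have τcube : ∀ i, τ i ^ 3 = 1 := fun i => by
    rw [(hst.pow_pow _ _).mul_pow, ← pow_mul, ← pow_mul, mul_comm (i.val % 3), mul_comm (i.val / 3), pow_mul, pow_mul,
      cube 0 (by norm_num), cube 1 (by norm_num), one_pow, one_pow, one_mul]
  have τcomm : ∀ i j, Commute (τ i) (τ j) := fun i j =>
    (((Commute.refl s).pow_pow _ _).mul_right (hst.pow_pow _ _)).mul_left
      (((hst.symm).pow_pow _ _).mul_right ((Commute.refl t).pow_pow _ _))
  have τinj : Function.Injective τ := by
    intro i j e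
    by_contra hne
    have hd := List.all_eq_true.mp (List.all_eq_true.mp tor_distinct i.val (List.mem_range.mpr i.isLt)) j.val
      (List.mem_range.mpr j.isLt)
    simp only [Bool.or_eq_true, beq_iff_eq, Bool.not_eq_true', Fin.val_inj, hne, false_or] at hd
    have e2 : ∀ k : Fin 9, LettersH (torProd (k.val % 3) (k.val / 3)) ∧ wM (torProd (k.val % 3) (k.val / 3)) = τ k := by
      intro k
      obtain ⟨a1, a2⟩ := wM_pow l0 (k.val % 3)
      obtain ⟨b1, b2⟩ := wM_pow l1 (k.val / 3)
      refine ⟨a1.append b1, ?_⟩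
      rw [torProd, wM_append a1 b1, a2, b2]
      exact (hst.pow_pow _ _).eq.symm
    have hsame : sameW (torProd (i.val % 3) (i.val / 3)) (torProd (j.val % 3) (j.val / 3)) = true := by
      have e3 : wperm (torProd (i.val % 3) (i.val / 3)) = wperm (torProd (j.val % 3) (j.val / 3)) := by
        rw [← wM_val (e2 i).1, ← wM_val (e2 j).1, (e2 i).2, (e2 j).2, e]
      simp only [sameW, List.all_eq_true, beq_iff_eq]
      intro k hk
      have hk' : k < 1782 := by simp only [List.mem_cons, List.not_mem_nil, or_false] at hk; omega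
      have := congrArg (fun σ : Equiv.Perm V => (σ ⟨k, hk'⟩).val) e3
      simpa [wperm_apply (e2 i).1.ok, wperm_apply (e2 j).1.ok] using this
    rw [hsame] at hd
    exact absurd hd (by decide)
  have τmem : ∀ i, τ i ∈ stabilizer M0 flag0 := fun i =>
    mul_mem (pow_mem (inB0 0 (by norm_num)) _) (pow_mem (inB0 1 (by norm_num)) _)
  let φ : U × Fin 9 → stabilizer M0 flag0 := fun p => ⟨p.1 * τ p.2, mul_mem (U_le_B0 p.1.2) (τmem p.2)⟩
  have φinj : Function.Injective φ := by
    rintro ⟨u, i⟩ ⟨v, j⟩ e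
    have e' : (u : M0) * τ i = v * τ j := congrArg Subtype.val e
    have hd : τ i * (τ j)⁻¹ ∈ U := by
      have : τ i * (τ j)⁻¹ = (u : M0)⁻¹ * v := by
        rw [eq_inv_mul_iff_mul_eq, ← mul_assoc, e', mul_inv_cancel_right]
      rw [this]; exact mul_mem (inv_mem u.2) v.2
    have h1 := hU3 _ hd (by rw [((τcomm i j).inv_right).mul_pow, inv_pow, τcube, τcube, inv_one, one_mul])
    rw [mul_inv_eq_one] at h1
    obtain rfl := τinj h1
    exact Prod.ext (Subtype.ext (mul_right_cancel e')) rfl
  have φbij : Function.Bijective φ :=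
    (Nat.bijective_iff_injective_and_card φ).mpr ⟨φinj, by rw [Nat.card_prod, card_U, card_B0, Nat.card_fin]⟩
  have decomp : ∀ x ∈ stabilizer M0 flag0, ∃ u ∈ U, ∃ i, x = u * τ i := fun x hx => by
    obtain ⟨⟨u, i⟩, e⟩ := φbij.2 ⟨x, hx⟩
    exact ⟨u, u.2, i, (congrArg Subtype.val e).symm⟩
  let N : Subgroup M0 := Subgroup.normalizer (U : Set M0)
  have memN : ∀ i < 2, wM (torW.getD i []) ∈ N := by
    intro i hi
    set x := wM (torW.getD i [])
    refine Subgroup.mem_normalizer_iff.mpr fun u => ⟨conjU i hi u, fun h => ?_⟩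
    have e : u = x * (x * (x * u * x⁻¹) * x⁻¹) * x⁻¹ := by
      have h3 : x * x * x = 1 := by rw [← pow_two, ← pow_succ]; exact cube i hi
      calc u = (x * x * x) * u * (x * x * x)⁻¹ := by rw [h3]; simp
        _ = _ := by group
    rw [e]
    exact conjU i hi _ (conjU i hi _ h)
  have hτN : ∀ i, τ i ∈ N := fun i => mul_mem (pow_mem (memN 0 (by norm_num)) _) (pow_mem (memN 1 (by norm_num)) _)
  have hB0N : stabilizer M0 flag0 ≤ N := fun x hx => by
    obtain ⟨u, hu, i, rfl⟩ := decomp x hx
    exact mul_mem (Subgroup.le_normalizer hu) (hτN i)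
  refine ⟨fun x hx u hu => (Subgroup.mem_normalizer_iff.mp (hB0N hx) u).mp hu, fun x hx h4096 => ?_⟩
  obtain ⟨u, hu, i, rfl⟩ := decomp x hx
  have hpow : ∀ n : ℕ, (u * τ i) ^ n * ((τ i) ^ n)⁻¹ ∈ U := by
    intro n
    induction n with
    | zero => simp
    | succ n ih =>
      rw [show (u * τ i) ^ (n + 1) * ((τ i) ^ (n + 1))⁻¹ =
        ((u * τ i) ^ n * ((τ i) ^ n)⁻¹) * ((τ i) ^ n * u * ((τ i) ^ n)⁻¹) by rw [pow_succ, pow_succ]; group]
      exact mul_mem ih ((Subgroup.mem_normalizer_iff.mp (pow_mem (hτN i) n) u).mp hu)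
  have h1 := hpow 4096
  rw [h4096, one_mul, inv_mem_iff, show 4096 = 3 * 1365 + 1 by norm_num, pow_succ, pow_mul, τcube, one_pow,
    one_mul] at h1
  exact mul_mem hu h1

/-! ### The six generators inside conjugates -/

/-- The word of a token. -/
def tokW (t : ℕ × ℕ × ℕ) : List ℕ :=
  let base := if t.2.1 = 0 then uGens.getD t.2.2 [] else
    (rootW.getD (t.2.1 - 1) []).reverse ++ uGens.getD t.2.2 [] ++ rootW.getD (t.2.1 - 1) []
  if t.1 = 0 then base else base.reverse

/-- An entry of the table gives all generators. -/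
noncomputable def killOK (e : List ℕ × List (List (ℕ × ℕ × ℕ))) : Bool :=
  (List.range 6).all fun l => (e.2.getD l []).all (fun t =>
      decide (t.2.2 < uGens.length ∧ (t.2.1 = 0 ∨ (t.2.1 - 1 ∈ e.1 ∧ t.2.1 - 1 < 12)))) &&
    decide (LettersH ((e.2.getD l []).flatMap tokW)) && sameW ((e.2.getD l []).flatMap tokW) [l]

theorem kill_ok : killW.all killOK = true := by decide +kernel

theorem kill_cover : (∀ j : Fin 12, j.val ∈ sameLine ∨ j.val ∈ samePoint ∨ [j.val] ∈ killW.map Prod.fst) ∧
    (∀ i : Fin 12, i.val ∈ sameLine → i.val ∉ samePoint → ∀ j : Fin 12, j.val ∈ samePoint → j.val ∉ sameLine →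
      [i.val, j.val] ∈ killW.map Prod.fst) := by decide +kernel

theorem kill {X : Subgroup M0} (hU : U ≤ X) {rs : List ℕ} (hrs : rs ∈ killW.map Prod.fst)
    (hr : ∀ j : Fin 12, j.val ∈ rs → ∀ u ∈ U, root j * u * (root j)⁻¹ ∈ X) : X = ⊤ := by
  obtain ⟨e, he, rfl⟩ := List.mem_map.mp hrs
  rw [← top_le_iff, ← closure_gens, Subgroup.closure_le]
  rintro _ ⟨l, rfl⟩
  have h := List.all_eq_true.mp (List.all_eq_true.mp kill_ok e he) l.val (List.mem_range.mpr l.isLt)
  simp only [Bool.and_eq_true, decide_eq_true_eq, List.all_eq_true] at h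
  obtain ⟨⟨htok, hL⟩, hsame⟩ := h
  show wM [l.val] ∈ X
  rw [← wM_congr hL (fun x hx => by simp only [List.mem_singleton] at hx; omega) hsame]
  clear hsame hL
  suffices ∀ ts : List (ℕ × ℕ × ℕ), (∀ t ∈ ts, t.2.2 < uGens.length ∧ (t.2.1 = 0 ∨ (t.2.1 - 1 ∈ e.1 ∧ t.2.1 - 1 < 12))) →
      LettersH (ts.flatMap tokW) ∧ wM (ts.flatMap tokW) ∈ X from (this _ htok).2
  intro ts
  induction ts with
  | nil => intro _; exact ⟨by simp [LettersH], by simp [wM_nil]⟩
  | cons t ts ih =>
    intro hts
    obtain ⟨h1, h2⟩ := ih fun x hx => hts x (List.mem_cons_of_mem _ hx)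
    obtain ⟨hi, hj⟩ := hts t (List.mem_cons_self ..)
    have hu := uGens_mem (List.getD_eq_getElem uGens [] hi ▸ List.getElem_mem hi : uGens.getD t.2.2 [] ∈ uGens)
    have hbase : LettersH (tokW (0, t.2.1, t.2.2)) ∧ wM (tokW (0, t.2.1, t.2.2)) ∈ X := by
      by_cases h0 : t.2.1 = 0
      · simp only [tokW, h0, if_true]
        exact ⟨hu.1, hU hu.2⟩
      · obtain ⟨hj1, hj2⟩ := hj.resolve_left h0
        have hl := rootW_letters ⟨_, hj2⟩
        simp only [tokW, h0, if_false, if_true]
        refine ⟨(hl.rev.append hu.1).append hl, ?_⟩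
        rw [wM_append (hl.rev.append hu.1) hl, wM_append hl.rev hu.1, wM_reverse hl, ← mul_assoc]
        exact hr ⟨_, hj2⟩ hj1 _ hu.2
    have ht : LettersH (tokW t) ∧ wM (tokW t) ∈ X := by
      by_cases h0 : t.1 = 0
      · rw [show t = (0, t.2.1, t.2.2) by rw [← h0]]; exact hbase
      · have : tokW t = (tokW (0, t.2.1, t.2.2)).reverse := by simp [tokW, h0]
        rw [this]
        exact ⟨hbase.1.rev, by rw [wM_reverse hbase.1]; exact inv_mem hbase.2⟩
    rw [List.flatMap_cons]
    exact ⟨ht.1.append h1, by rw [wM_append ht.1 h1]; exact mul_mem h2 ht.2⟩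

theorem root_same : ∀ j : Fin 12, (j.val ∈ sameLine → follow ltab 0 (rootW.getD j.val []) = 0) ∧
    (j.val ∈ samePoint → follow ptab 0 (rootW.getD j.val []) = 0) := by decide +kernel

/-- A subgroup of index 1365 fixes, after conjugation, the base line or the base point. -/
theorem parabolic (X : Subgroup M0) (hX : Nat.card X = 184320) :
    ∃ k : M0, (∀ x ∈ X, actL (k⁻¹ * x * k) 0 = 0) ∨ (∀ x ∈ X, actP (k⁻¹ * x * k) 0 = 0) := by
  classical
  haveI : Fact (Nat.Prime 2) := ⟨Nat.prime_two⟩
  obtain ⟨P, hP⟩ := Sylow.exists_subgroup_card_pow_prime 2 (G := X) (n := 12)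
    (by rw [hX]; norm_num)
  set P' : Subgroup M0 := P.map X.subtype with hP'
  have hP'X : P' ≤ X := Subgroup.map_subtype_le P
  have hP'card : Nat.card P' = 2 ^ 12 := by
    rw [hP', ← Nat.card_congr (P.equivMapOfInjective X.subtype Subtype.val_injective).toEquiv, hP]
  have hpg : IsPGroup 2 P' := IsPGroup.of_card hP'card
  obtain ⟨f, hf⟩ := hpg.nonempty_fixed_point_of_prime_not_dvd_card Flag (by
    rw [card_Flag]; norm_num)
  obtain ⟨k, rfl⟩ : f ∈ orbit M0 flag0 := orbit_flag0 ▸ Set.mem_univ f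
  set X' : Subgroup M0 := X.map (MulAut.conj k⁻¹).toMonoidHom with hX'
  have memX' : ∀ x, x ∈ X' ↔ k * x * k⁻¹ ∈ X := fun x => by
    rw [hX', Subgroup.mem_map]
    constructor
    · rintro ⟨y, hy, rfl⟩; simpa [mul_assoc] using hy
    · exact fun h => ⟨_, h, by simp [mul_assoc]⟩
  have hcard' : Nat.card X' = 184320 := by
    rw [hX', ← Nat.card_congr (X.equivMapOfInjective _ (MulAut.conj k⁻¹).injective).toEquiv, hX]
  have hUX : U ≤ X' := by
    set Q : Subgroup M0 := P'.map (MulAut.conj k⁻¹).toMonoidHom with hQ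
    have hQX : Q ≤ X' := Subgroup.map_mono hP'X
    have hQcard : Nat.card Q = 4096 := by
      rw [hQ, ← Nat.card_congr (P'.equivMapOfInjective _ (MulAut.conj k⁻¹).injective).toEquiv, hP'card]
      norm_num
    have hQU : Q ≤ U := by
      intro q hq
      refine B0_structure.2 q ?_ ?_
      · obtain ⟨p, hp, rfl⟩ := hq
        have e : p • k • flag0 = k • flag0 := hf ⟨p, hp⟩
        show (MulAut.conj k⁻¹ p) • flag0 = flag0
        rw [MulAut.conj_apply, inv_inv, mul_smul, mul_smul, e, inv_smul_smul]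
      · exact (orderOf_dvd_iff_pow_eq_one).mp (hQcard ▸ Subgroup.orderOf_dvd_natCard Q hq)
    rw [← Subgroup.eq_of_le_of_card_ge hQU (by rw [hQcard, card_U])]
    exact hQX
  have hne : X' ≠ ⊤ := fun h => by
    rw [h, card_M0_sub] at hcard'
    norm_num at hcard'
  -- each element of the subgroup determines an orbit of pairs
  have hex : ∀ x ∈ X', ∃ u ∈ U, ∃ j : Fin 12, x • flag0 = (u * root j) • flag0 ∧
      ∀ v ∈ U, root j * v * (root j)⁻¹ ∈ X' := by
    intro x hx
    obtain ⟨u, hu, j, hj⟩ := cover (x • flag0)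
    refine ⟨u, hu, j, hj, fun v hv => ?_⟩
    have hy : x⁻¹ * (u * root j) ∈ stabilizer M0 flag0 := by
      show (x⁻¹ * (u * root j)) • flag0 = flag0
      rw [mul_smul, ← hj, inv_smul_smul]
    have hv' := B0_structure.1 _ hy v hv
    have := mul_mem (mul_mem (mul_mem (mul_mem (inv_mem (hUX hu)) hx) (hUX hv')) (inv_mem hx)) (hUX hu)
    rw [show u⁻¹ * x * (x⁻¹ * (u * root j) * v * (x⁻¹ * (u * root j))⁻¹) * x⁻¹ * u =
      root j * v * (root j)⁻¹ by group] at this
    exact this
  have hor : ∀ x ∈ X', ∀ j : Fin 12, (∀ v ∈ U, root j * v * (root j)⁻¹ ∈ X') →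
      j.val ∈ sameLine ∨ j.val ∈ samePoint := by
    intro x hx j hj
    rcases kill_cover.1 j with h | h | h
    · exact Or.inl h
    · exact Or.inr h
    · exact absurd (kill hUX h fun i hi => by
        simp only [List.mem_singleton] at hi
        obtain rfl : i = j := Fin.ext hi
        exact hj) hne
  have hfixU : ∀ u ∈ U, actL u 0 = 0 ∧ actP u 0 = 0 := fun u hu => by
    have := congrArg Subtype.val (U_le_B0 hu : u • flag0 = flag0)
    exact ⟨congrArg Prod.fst this, congrArg Prod.snd this⟩
  by_cases hline : ∀ x ∈ X', actL x 0 = 0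
  · exact ⟨k, Or.inl fun x hx => hline _ ((memX' _).mpr (by simpa [mul_assoc] using hx))⟩
  · refine ⟨k, Or.inr fun x hx => ?_⟩
    push Not at hline
    obtain ⟨x₁, hx₁, hne₁⟩ := hline
    obtain ⟨u₁, hu₁, j₁, hj₁, hc₁⟩ := hex x₁ hx₁
    have h₁ : j₁.val ∉ sameLine := fun hh => hne₁ (by
      have e : actL x₁ 0 = actL (u₁ * root j₁) 0 := congrArg (fun f : Flag => f.1.1) hj₁
      rw [e, map_mul, Equiv.Perm.mul_apply]
      have : actL (root j₁) 0 = 0 := Fin.ext ((actL_wM (rootW_letters j₁) 0).trans ((root_same j₁).1 hh))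
      rw [this, (hfixU u₁ hu₁).1])
    have h₁' : j₁.val ∈ samePoint := (hor x₁ hx₁ j₁ hc₁).resolve_left h₁
    obtain ⟨u, hu, j, hj, hc⟩ := hex _ ((memX' (k⁻¹ * x * k)).mpr (by simpa [mul_assoc] using hx))
    have hjP : j.val ∈ samePoint := by
      by_contra hn
      have hjL : j.val ∈ sameLine := (hor _ ((memX' (k⁻¹ * x * k)).mpr (by simpa [mul_assoc] using hx)) j hc).resolve_right hn
      refine hne (kill hUX (kill_cover.2 j hjL hn j₁ h₁' h₁) fun i hi => ?_)
      simp only [List.mem_cons, List.not_mem_nil, or_false] at hi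
      rcases hi with hi | hi
      · obtain rfl : i = j := Fin.ext hi
        exact hc
      · obtain rfl : i = j₁ := Fin.ext hi
        exact hc₁
    have e : actP (k⁻¹ * x * k) 0 = actP (u * root j) 0 := congrArg (fun f : Flag => f.1.2) hj
    rw [e, map_mul, Equiv.Perm.mul_apply]
    have : actP (root j) 0 = 0 := Fin.ext ((actP_wM (rootW_letters j) 0).trans ((root_same j).2 hjP))
    rw [this, (hfixU u hu).2]

end CfsgLib.SuzRankThree
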