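import Cfsg.Agent.SuzRankThree.Parabolic
import Cfsg.Agent.SuzRankThree.DataLine
import Cfsg.Agent.SuzRankThree.DataPoint

/-!
# The relations on lines and on points

Two elements are near when they are incident with a common element of the other kind, and at distance two when they
are not near but have a common near element. The same proofs serve for the lines and for the points.
-/

set_option autoImplicit false
set_option maxRecDepth 100000
set_option maxHeartbeats 1000000
set_option linter.style.haveILetI false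
set_option Elab.async false

namespace CfsgLib.SuzRankThree

open CfsgLib.Coset

attribute [local irreducible] lineV lineIx lineT pointT linesOn pointsOn maskB Suz.Top.Tb

/-- A kind of object with its partners. -/
structure Geo where
  /-- the action on the objects -/
  act : M0 →* Equiv.Perm I
  /-- the action on the partners -/
  actB : M0 →* Equiv.Perm I
  /-- the table of the action on the objects -/
  tab : ℕ → ℕ → ℕ
  follow_tab : ∀ {w : List ℕ}, LettersH w → ∀ i : I, (act (wM w) i).val = follow tab i.val w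
  /-- the partners of an object -/
  blocks : ℕ → List ℕ
  /-- the objects of a partner -/
  objs : ℕ → List ℕ
  blocks_lt : ∀ i : I, ∀ b ∈ blocks i.val, b < 1365
  objs_lt : ∀ b : I, ∀ i ∈ objs b.val, i < 1365
  rel_iff : ∀ i b : I, b.val ∈ blocks i.val ↔ i.val ∈ objs b.val
  rel_act : ∀ (m : M0) (i b : I), (actB m b).val ∈ blocks (act m i).val ↔ b.val ∈ blocks i.val

theorem linesAt_lt (p : I) : ∀ i ∈ linesAt p.val, i < 1365 := by
  intro i hi
  have h := List.all_eq_true.mp linesAt_ok p.val (List.mem_range.mpr p.isLt)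
  simp only [Bool.and_eq_true, List.all_eq_true, decide_eq_true_eq] at h
  exact (h.1.1.1 i hi).1

theorem pointsAt_lt (p : I) : ∀ i ∈ pointsAt p.val, i < 1365 := by
  intro i hi
  have h := List.all_eq_true.mp linesAt_ok p.val (List.mem_range.mpr p.isLt)
  simp only [Bool.and_eq_true, List.all_eq_true, decide_eq_true_eq] at h
  exact (h.1.2 i hi).1

/-- The lines. -/
noncomputable def lineGeo : Geo where
  act := actL
  actB := actP
  tab := ltab
  follow_tab := fun hw i => actL_wM hw i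
  blocks := pointsAt
  objs := linesAt
  blocks_lt := pointsAt_lt
  objs_lt := linesAt_lt
  rel_iff := fun _ _ => inc_iff.symm
  rel_act := fun m i b => by rw [← inc_iff, ← inc_iff, inc_act]

/-- The points. -/
noncomputable def pointGeo : Geo where
  act := actP
  actB := actL
  tab := ptab
  follow_tab := fun hw i => actP_wM hw i
  blocks := linesAt
  objs := pointsAt
  blocks_lt := linesAt_lt
  objs_lt := pointsAt_lt
  rel_iff := fun _ _ => inc_iff
  rel_act := fun m i b => inc_act m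

namespace Geo

variable (G : Geo)

/-- Incident with a common partner. -/
def Near (i j : I) : Prop := i ≠ j ∧ ∃ b : I, b.val ∈ G.blocks i.val ∧ b.val ∈ G.blocks j.val

/-- At distance two. -/
def Two (i j : I) : Prop := i ≠ j ∧ ¬ G.Near i j ∧ ∃ r, G.Near i r ∧ G.Near r j

/-- The near objects, listed. -/
def nearL (i : ℕ) : List ℕ := ((G.blocks i).flatMap G.objs).filter fun j => !(j == i)

/-- The objects at distance two, listed with repetitions. -/
def twoL (i : ℕ) : List ℕ :=
  ((G.nearL i).flatMap G.nearL).filter fun j => !(j == i) && !(G.nearL i).contains j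

theorem near_iff {i j : I} : G.Near i j ↔ j.val ∈ G.nearL i.val := by
  simp only [nearL, List.mem_filter, List.mem_flatMap, Bool.not_eq_true', beq_eq_false_iff_ne, ne_eq, Fin.val_inj]
  constructor
  · rintro ⟨hne, b, hi, hj⟩
    exact ⟨⟨b.val, hi, (G.rel_iff j b).mp hj⟩, Ne.symm hne⟩
  · rintro ⟨⟨b, hb, hj⟩, hne⟩
    exact ⟨Ne.symm hne, ⟨b, G.blocks_lt i b hb⟩, hb, (G.rel_iff j _).mpr hj⟩

theorem nearL_lt {i : I} {j : ℕ} (hj : j ∈ G.nearL i.val) : j < 1365 := by
  simp only [nearL, List.mem_filter, List.mem_flatMap] at hj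
  obtain ⟨⟨b, hb, hj⟩, -⟩ := hj
  exact G.objs_lt ⟨b, G.blocks_lt i b hb⟩ j hj

theorem two_iff {i j : I} : G.Two i j ↔ j.val ∈ G.twoL i.val := by
  simp only [twoL, List.mem_filter, List.mem_flatMap, Bool.and_eq_true, Bool.not_eq_true', beq_eq_false_iff_ne, ne_eq,
    Fin.val_inj, ← Bool.not_eq_true, List.contains_iff_mem, Two, near_iff]
  constructor
  · rintro ⟨hne, hn, r, h1, h2⟩
    exact ⟨⟨r.val, h1, h2⟩, by simpa [Fin.val_inj] using Ne.symm hne, hn⟩
  · rintro ⟨⟨r, h1, h2⟩, hne, hn⟩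
    refine ⟨fun e => ?_, hn, ⟨r, G.nearL_lt h1⟩, h1, h2⟩
    subst e
    simp at hne

theorem near_symm {i j : I} (h : G.Near i j) : G.Near j i :=
  ⟨h.1.symm, let ⟨b, h1, h2⟩ := h.2; ⟨b, h2, h1⟩⟩

theorem two_symm {i j : I} (h : G.Two i j) : G.Two j i :=
  ⟨h.1.symm, fun h' => h.2.1 (G.near_symm h'), let ⟨r, h1, h2⟩ := h.2.2; ⟨r, G.near_symm h2, G.near_symm h1⟩⟩

theorem near_act (m : M0) {i j : I} : G.Near (G.act m i) (G.act m j) ↔ G.Near i j := by
  refine and_congr (by simp) ⟨?_, ?_⟩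
  · rintro ⟨b, h1, h2⟩
    obtain ⟨b, rfl⟩ := (G.actB m).surjective b
    exact ⟨b, (G.rel_act m i b).mp h1, (G.rel_act m j b).mp h2⟩
  · rintro ⟨b, h1, h2⟩
    exact ⟨G.actB m b, (G.rel_act m i b).mpr h1, (G.rel_act m j b).mpr h2⟩

theorem two_act (m : M0) {i j : I} : G.Two (G.act m i) (G.act m j) ↔ G.Two i j := by
  refine and_congr (by simp) (and_congr (not_congr (G.near_act m)) ⟨?_, ?_⟩)
  · rintro ⟨r, h1, h2⟩
    obtain ⟨r, rfl⟩ := (G.act m).surjective r
    exact ⟨r, (G.near_act m).mp h1, (G.near_act m).mp h2⟩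
  · rintro ⟨r, h1, h2⟩
    exact ⟨G.act m r, (G.near_act m).mpr h1, (G.near_act m).mpr h2⟩

/-- The certificate. -/
noncomputable def certOK (stab : List (List ℕ)) (tn t2 tf top : List ℕ) : Bool :=
  let mn := maskOf (G.nearL 0)
  let mt := maskOf (G.twoL 0)
  let rn := (G.nearL 0).getD 0 0
  let w := tent tn 0 0
  let w2 := tent t2 0 0
  let mnw := maskOf (G.nearL w)
  let mtw := maskOf (G.twoL w)
  let mtw2 := maskOf (G.twoL w2)
  stab.all (fun g => decide (LettersH g) && follow G.tab 0 g == 0) &&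
  treeOK G.tab w 20 stab tn && treeOK G.tab w2 320 stab t2 && treeOK G.tab (tent tf 0 0) 1024 stab tf &&
  treeOK G.tab 0 1365 [[0], [1], [2], [3], [4], [5]] top &&
  (treePts 1365 top == List.range 1365) &&
  (maskOf (treePts 20 tn) == mn) && (maskOf (treePts 320 t2) == mt) && decide (rn < 1365) &&
  decide (w < 1365) && decide (w2 < 1365) && decide (tent tf 0 0 < 1365) &&
  ((List.range 1365).all fun x => x == 0 || mn.testBit x || mt.testBit x || (maskOf (treePts 1024 tf)).testBit x) &&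
  (((treePts 20 tn).filter fun x => mnw.testBit x).length == 3) &&
  (((treePts 20 tn).filter fun x => mtw.testBit x).length == 16) &&
  (((treePts 320 t2).filter fun x => mtw.testBit x).length == 48) &&
  (((treePts 320 t2).filter fun x => mtw2.testBit x).length == 76)

/-- What the certificate gives. -/
structure Props : Prop where
  trans : ∀ i : I, ∃ m : M0, G.act m 0 = i
  cardNear : ∀ z, {w | G.Near z w}.ncard = 20
  cardTwo : ∀ z, {w | G.Two z w}.ncard = 320
  farBig : ∀ z w, w ≠ z → ¬ G.Near z w → ¬ G.Two z w →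
    1024 ≤ {w' | ∃ m : M0, G.act m z = z ∧ G.act m w = w'}.ncard
  transNear : ∀ z w w', G.Near z w → G.Near z w' → ∃ m : M0, G.act m z = z ∧ G.act m w = w'
  transTwo : ∀ z w w', G.Two z w → G.Two z w' → ∃ m : M0, G.act m z = z ∧ G.act m w = w'
  nearNear : ∀ z w, G.Near z w → ({x | G.Near z x} ∩ {x | G.Near w x}).ncard = 3
  nearTwo : ∀ z w, G.Near z w → ({x | G.Near z x} ∩ {x | G.Two w x}).ncard = 16
  twoNear : ∀ z w, G.Near z w → ({x | G.Two z x} ∩ {x | G.Two w x}).ncard = 48
  twoTwo : ∀ z w, G.Two z w → ({x | G.Two z x} ∩ {x | G.Two w x}).ncard = 76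

theorem ncard_list {l : List ℕ} (hnd : l.Nodup) (hlt : ∀ x ∈ l, x < 1365) :
    {i : I | i.val ∈ l}.ncard = l.length := by
  classical
  rw [← List.toFinset_card_of_nodup hnd, ← Set.ncard_coe_finset, ← Set.ncard_image_of_injective _ Fin.val_injective]
  congr 1
  ext x
  simp only [Set.mem_image, Set.mem_ofPred_eq, List.coe_toFinset]
  exact ⟨fun ⟨i, hi, e⟩ => e ▸ hi, fun hx => ⟨⟨x, hlt x hx⟩, hx, rfl⟩⟩

theorem props_of_cert {stab : List (List ℕ)} {tn t2 tf top : List ℕ} (h : G.certOK stab tn t2 tf top = true) :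
    G.Props := by
  classical
  simp only [certOK, Bool.and_eq_true, beq_iff_eq, decide_eq_true_eq, List.all_eq_true] at h
  obtain ⟨⟨⟨⟨⟨⟨⟨⟨⟨⟨⟨⟨⟨⟨⟨⟨hstab, hn⟩, h2⟩, hf⟩, htop⟩, htopPts⟩, hmn⟩, hmt⟩, -⟩, hw⟩, hw2⟩, hwf⟩, hcov⟩, c3⟩, c16⟩,
    c48⟩, c76⟩ := h
  have step : ∀ (P : M0 → Prop), (∀ w, (LettersH w ∧ G.act (wM w) 0 = 0) → P (wM w)) → (∀ a b, P a → P b → P (a * b)) →
      ∀ (r : ℕ) (i : ℕ), (∃ m, P m ∧ ∃ hr : r < 1365, (G.act m ⟨r, hr⟩).val = i) → ∀ w ∈ stab,
      ∃ m, P m ∧ ∃ hr : r < 1365, (G.act m ⟨r, hr⟩).val = follow G.tab i w := by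
    rintro P hP hmul r i ⟨m, hm, hr, rfl⟩ w hw
    refine ⟨wM w * m, hmul _ _ (hP w ⟨(hstab w hw).1, Fin.ext ((G.follow_tab (hstab w hw).1 0).trans (hstab w hw).2)⟩) hm,
      hr, ?_⟩
    rw [map_mul, Equiv.Perm.mul_apply, G.follow_tab (hstab w hw).1]
  have fromTree : ∀ (n : ℕ) (L : List ℕ) (r : ℕ) (hr : r < 1365), treeOK G.tab r n stab L = true →
      ∀ x ∈ treePts n L, ∃ m : M0, G.act m 0 = 0 ∧ (G.act m ⟨r, hr⟩).val = x := by
    intro n L r hr hL x hx
    obtain ⟨m, hm, _, e⟩ := tree_spec (R := fun i => ∃ m, G.act m 0 = 0 ∧ ∃ hr : r < 1365, (G.act m ⟨r, hr⟩).val = i) hL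
      ⟨1, by simp, hr, by simp⟩
      (fun w hw i hi => step (fun m => G.act m 0 = 0) (fun _ h => h.2) (fun a b ha hb => by simp [ha, hb]) r i hi w hw) x hx
    exact ⟨m, hm, e⟩
  have trans : ∀ i : I, ∃ m : M0, G.act m 0 = i := by
    intro i
    have hi : i.val ∈ treePts 1365 top := htopPts ▸ List.mem_range.mpr i.isLt
    obtain ⟨m, e⟩ := tree_spec (R := fun j => ∃ m : M0, (G.act m 0).val = j) htop ⟨1, by simp⟩ (fun w hw j hj => by
      obtain ⟨m, rfl⟩ := hj
      have hl : LettersH w := by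
        simp only [List.mem_cons, List.not_mem_nil, or_false] at hw
        rcases hw with rfl | rfl | rfl | rfl | rfl | rfl <;> decide
      exact ⟨wM w * m, by rw [map_mul, Equiv.Perm.mul_apply, G.follow_tab hl]⟩) _ hi
    exact ⟨m, Fin.ext e⟩
  have base : ∀ z, ∃ m : M0, G.act m 0 = z := trans
  have inNear : ∀ x : I, G.Near 0 x ↔ x.val ∈ treePts 20 tn := fun x => by
    rw [near_iff, show (0 : I).val = 0 from rfl, ← mem_of_maskOf, ← hmn, mem_of_maskOf]
  have inTwo : ∀ x : I, G.Two 0 x ↔ x.val ∈ treePts 320 t2 := fun x => by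
    rw [two_iff, show (0 : I).val = 0 from rfl, ← mem_of_maskOf, ← hmt, mem_of_maskOf]
  have ltn : ∀ x ∈ treePts 20 tn, x < 1365 := fun x hx => by
    rw [← mem_of_maskOf, hmn, mem_of_maskOf] at hx
    exact G.nearL_lt (i := 0) hx
  have lt2 : ∀ x ∈ treePts 320 t2, x < 1365 := fun x hx => by
    obtain ⟨m, -, e⟩ := fromTree 320 t2 _ hw2 h2 x hx
    exact e ▸ (G.act m _).isLt
  have ltf : ∀ x ∈ treePts 1024 tf, x < 1365 := fun x hx => by
    obtain ⟨m, -, e⟩ := fromTree 1024 tf _ hwf hf x hx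
    exact e ▸ (G.act m _).isLt
  have wnear : G.Near 0 ⟨_, hw⟩ := (inNear _).mpr (List.mem_map.mpr ⟨0, by simp, rfl⟩)
  have wtwo : G.Two 0 ⟨_, hw2⟩ := (inTwo _).mpr (List.mem_map.mpr ⟨0, by simp, rfl⟩)
  have movenear : ∀ z w, G.Near z w → ∃ m : M0, G.act m 0 = z ∧ G.act m ⟨_, hw⟩ = w := by
    intro z w hzw
    obtain ⟨g, rfl⟩ := base z
    obtain ⟨w, rfl⟩ := (G.act g).surjective w
    rw [near_act] at hzw
    obtain ⟨m, hm, e⟩ := fromTree 20 tn _ hw hn _ ((inNear w).mp hzw)
    exact ⟨g * m, by simp [hm], by rw [map_mul, Equiv.Perm.mul_apply, Fin.ext e]⟩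
  have movetwo : ∀ z w, G.Two z w → ∃ m : M0, G.act m 0 = z ∧ G.act m ⟨_, hw2⟩ = w := by
    intro z w hzw
    obtain ⟨g, rfl⟩ := base z
    obtain ⟨w, rfl⟩ := (G.act g).surjective w
    rw [two_act] at hzw
    obtain ⟨m, hm, e⟩ := fromTree 320 t2 _ hw2 h2 _ ((inTwo w).mp hzw)
    exact ⟨g * m, by simp [hm], by rw [map_mul, Equiv.Perm.mul_apply, Fin.ext e]⟩
  have pre : ∀ (m : M0) (P : I → I → Prop), (∀ i j, P (G.act m i) (G.act m j) ↔ P i j) → ∀ z : I,
      {x | P (G.act m z) x} = G.act m '' {x | P z x} := by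
    intro m P hP z
    ext x
    obtain ⟨x, rfl⟩ := (G.act m).surjective x
    simp [hP]
  have countList : ∀ (l : List ℕ) (msk : ℕ) (P : I → Prop) (L : List ℕ), l.Nodup → (∀ x ∈ l, x < 1365) →
      msk = maskOf L → (∀ x : I, P x ↔ x.val ∈ L) →
      ({x : I | x.val ∈ l} ∩ {x | P x}).ncard = (l.filter fun x => msk.testBit x).length := by
    intro l msk P L hnd hlt hmsk hP
    rw [← ncard_list (hnd.filter _) (fun x hx => hlt x (List.mem_filter.mp hx).1)]
    congr 1
    ext x
    simp only [Set.mem_inter_iff, Set.mem_ofPred_eq, List.mem_filter, hP, hmsk, mem_of_maskOf]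
  constructor
  · exact trans
  · intro z
    obtain ⟨g, rfl⟩ := base z
    rw [pre g G.Near (fun _ _ => G.near_act g), Set.ncard_image_of_injective _ (G.act g).injective,
      show {x | G.Near 0 x} = {x : I | x.val ∈ treePts 20 tn} from Set.ext inNear, ncard_list (tree_nodup hn) ltn]
    simp [treePts]
  · intro z
    obtain ⟨g, rfl⟩ := base z
    rw [pre g G.Two (fun _ _ => G.two_act g), Set.ncard_image_of_injective _ (G.act g).injective,
      show {x | G.Two 0 x} = {x : I | x.val ∈ treePts 320 t2} from Set.ext inTwo, ncard_list (tree_nodup h2) lt2]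
    simp [treePts]
  · intro z w hne hn' ht'
    obtain ⟨g, rfl⟩ := base z
    obtain ⟨w, rfl⟩ := (G.act g).surjective w
    rw [near_act] at hn'
    rw [two_act] at ht'
    have hwn : w ≠ 0 := fun e => hne (by rw [e])
    have hwmem : w.val ∈ treePts 1024 tf := by
      have := hcov w.val (List.mem_range.mpr w.isLt)
      simp only [Bool.or_eq_true, beq_iff_eq, ← hmn, ← hmt, mem_of_maskOf] at this
      rcases this with ((h | h) | h) | h
      · exact absurd (Fin.ext h) hwn
      · exact absurd ((inNear w).mpr h) hn'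
      · exact absurd ((inTwo w).mpr h) ht'
      · exact h
    obtain ⟨m₀, hm₀, e₀⟩ := fromTree 1024 tf _ hwf hf _ hwmem
    refine le_trans (le_of_eq ?_) (Set.ncard_le_ncard (s := G.act g '' {x : I | x.val ∈ treePts 1024 tf}) ?_)
    · rw [Set.ncard_image_of_injective _ (G.act g).injective, ncard_list (tree_nodup hf) ltf]
      simp [treePts]
    · rintro _ ⟨x, hx, rfl⟩
      obtain ⟨m, hm, e⟩ := fromTree 1024 tf _ hwf hf _ hx
      refine ⟨g * m * m₀⁻¹ * g⁻¹, ?_, ?_⟩
      · have : G.act m₀⁻¹ 0 = 0 := by rw [map_inv, Equiv.Perm.inv_eq_iff_eq]; exact hm₀.symm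
        simp only [map_mul, Equiv.Perm.mul_apply, map_inv, Equiv.Perm.inv_def, Equiv.symm_apply_apply] at this ⊢
        rw [this, hm]
      · have : G.act m₀⁻¹ w = ⟨_, hwf⟩ := by rw [map_inv, Equiv.Perm.inv_eq_iff_eq]; exact (Fin.ext e₀).symm
        simp only [map_mul, Equiv.Perm.mul_apply, map_inv, Equiv.Perm.inv_def, Equiv.symm_apply_apply]
        rw [show (G.act m₀).symm w = ⟨_, hwf⟩ by simpa using this, Fin.ext e]
  · intro z w w' h1 h1'
    obtain ⟨m, e1, e2⟩ := movenear z w h1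
    obtain ⟨m', e1', e2'⟩ := movenear z w' h1'
    refine ⟨m' * m⁻¹, ?_, ?_⟩
    · rw [map_mul, Equiv.Perm.mul_apply, map_inv, Equiv.Perm.inv_eq_iff_eq.mpr e1.symm, e1']
    · rw [map_mul, Equiv.Perm.mul_apply, map_inv, Equiv.Perm.inv_eq_iff_eq.mpr e2.symm, e2']
  · intro z w w' h1 h1'
    obtain ⟨m, e1, e2⟩ := movetwo z w h1
    obtain ⟨m', e1', e2'⟩ := movetwo z w' h1'
    refine ⟨m' * m⁻¹, ?_, ?_⟩
    · rw [map_mul, Equiv.Perm.mul_apply, map_inv, Equiv.Perm.inv_eq_iff_eq.mpr e1.symm, e1']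
    · rw [map_mul, Equiv.Perm.mul_apply, map_inv, Equiv.Perm.inv_eq_iff_eq.mpr e2.symm, e2']
  · intro z w hzw
    obtain ⟨m, rfl, rfl⟩ := movenear z w hzw
    rw [pre m G.Near (fun _ _ => G.near_act m), pre m G.Near (fun _ _ => G.near_act m),
      ← Set.image_inter (G.act m).injective, Set.ncard_image_of_injective _ (G.act m).injective,
      show {x | G.Near 0 x} = {x : I | x.val ∈ treePts 20 tn} from Set.ext inNear,
      countList _ _ _ (G.nearL (tent tn 0 0)) (tree_nodup hn) ltn rfl (fun x => G.near_iff), c3]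
  · intro z w hzw
    obtain ⟨m, rfl, rfl⟩ := movenear z w hzw
    rw [pre m G.Near (fun _ _ => G.near_act m), pre m G.Two (fun _ _ => G.two_act m),
      ← Set.image_inter (G.act m).injective, Set.ncard_image_of_injective _ (G.act m).injective,
      show {x | G.Near 0 x} = {x : I | x.val ∈ treePts 20 tn} from Set.ext inNear,
      countList _ _ _ (G.twoL (tent tn 0 0)) (tree_nodup hn) ltn rfl (fun x => G.two_iff), c16]
  · intro z w hzw
    obtain ⟨m, rfl, rfl⟩ := movenear z w hzw
    rw [pre m G.Two (fun _ _ => G.two_act m), pre m G.Two (fun _ _ => G.two_act m),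
      ← Set.image_inter (G.act m).injective, Set.ncard_image_of_injective _ (G.act m).injective,
      show {x | G.Two 0 x} = {x : I | x.val ∈ treePts 320 t2} from Set.ext inTwo,
      countList _ _ _ (G.twoL (tent tn 0 0)) (tree_nodup h2) lt2 rfl (fun x => G.two_iff), c48]
  · intro z w hzw
    obtain ⟨m, rfl, rfl⟩ := movetwo z w hzw
    rw [pre m G.Two (fun _ _ => G.two_act m), pre m G.Two (fun _ _ => G.two_act m),
      ← Set.image_inter (G.act m).injective, Set.ncard_image_of_injective _ (G.act m).injective,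
      show {x | G.Two 0 x} = {x : I | x.val ∈ treePts 320 t2} from Set.ext inTwo,
      countList _ _ _ (G.twoL (tent t2 0 0)) (tree_nodup h2) lt2 rfl (fun x => G.two_iff), c76]

end Geo

theorem lineGeo_props : lineGeo.Props :=
  lineGeo.props_of_cert (stab := lineStabW) (tn := lineNearTree) (t2 := lineTwoTree) (tf := lineFarTree) (top := lineTop)
    (by decide +kernel)

theorem pointGeo_props : pointGeo.Props :=
  pointGeo.props_of_cert (stab := pointStabW) (tn := pointNearTree) (t2 := pointTwoTree) (tf := pointFarTree)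
    (top := pointTop) (by decide +kernel)

end CfsgLib.SuzRankThree
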