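import Cfsg.Agent.SuzRankThree.Scheme
import Cfsg.Agent.SuzRankThree.DataGraph

/-!
# Sets invariant under a group of order 25

A set that meets the twenty near objects of each object in seven times its indicator plus three, and is invariant
under two given commuting elements of order five, is the special set of lines. No such set of points exists.
-/

set_option autoImplicit false
set_option maxRecDepth 100000
set_option maxHeartbeats 1000000
set_option linter.style.haveILetI false
set_option Elab.async false

namespace CfsgLib.SuzRankThree

open CfsgLib.Coset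

attribute [local irreducible] lineV lineIx lineT pointT linesOn pointsOn maskB Suz.Top.Tb

/-- The two words. -/
def fiveA : List ℕ := sylowFive.getD 0 []

/-- The second of the two words. -/
def fiveB : List ℕ := sylowFive.getD 1 []

namespace Geo

variable (G : Geo) (lab ex reps rows : List ℕ)

/-- A representative of an orbit. -/
def rep (j : ℕ) : ℕ := reps.getD j 0

/-- The word from a representative to an object. -/
def expW (i : ℕ) : List ℕ :=
  (List.replicate (getA ex i / 5) fiveA).flatten ++ (List.replicate (getA ex i % 5) fiveB).flatten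

/-- A coefficient of the equation at a representative. -/
def coefA (j c : ℕ) : ℤ :=
  ((((G.nearL (rep reps j)).countP fun x => getA lab x == c) : ℕ) : ℤ) - if j = c then 7 else 0

/-- A stored coefficient. -/
def rowC (r c : ℕ) : ℤ := (getA rows (115 * r + c) : ℤ) - 8388608

/-- The bookkeeping is right. -/
noncomputable def labOK : Bool :=
  decide (LettersH fiveA) && decide (LettersH fiveB) &&
  ((List.range 57).all fun j => decide (rep reps j < 1365) && getA lab (rep reps j) == j &&
    decide (G.nearL (rep reps j)).Nodup) &&
  ((List.range 1365).all fun i => decide (getA lab i < 57) &&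
    follow G.tab (rep reps (getA lab i)) (expW ex i) == i)

/-- The stored rows are combinations of the equations. -/
noncomputable def rowsOK : Bool :=
  let A := (List.range 57).map fun j => (List.range 57).map fun c => G.coefA lab reps j c
  (List.range 43).all fun r =>
    ((List.range 57).all fun c =>
      ((List.range 57).map fun j => rowC rows r (58 + j) * (A.getD j []).getD c 0).sum == rowC rows r c) &&
    ((List.range 57).map fun j => rowC rows r (58 + j) * 3).sum == rowC rows r 57

/-- The value of a row lies outside the interval left by a partial assignment. -/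
def bad (y : List ℕ) (r : ℕ) : Bool :=
  decide (rowC rows r 57 < ((List.range 57).map fun c =>
      if y.getD c 2 = 2 then min 0 (rowC rows r c) else rowC rows r c * (y.getD c 2 : ℤ)).sum) ||
    decide (((List.range 57).map fun c =>
      if y.getD c 2 = 2 then max 0 (rowC rows r c) else rowC rows r c * (y.getD c 2 : ℤ)).sum < rowC rows r 57)

/-- The search, following a tree given in prefix order. -/
def search (sol : Option ℕ) : ℕ → List ℕ → List ℕ → Option (List ℕ)
  | 0, _, _ => none
  | _, [], _ => none
  | n + 1, k :: code, y =>
    if k = 1000000 then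
      match sol with
      | none => none
      | some T => if (List.range 57).all (fun c => y.getD c 2 == if T.testBit (rep reps c) then 1 else 0) then some code
          else none
    else if k % 2 = 0 then (if decide (k / 2 < 43) && bad rows y (k / 2) then some code else none)
    else if decide (k / 2 < 57) && y.getD (k / 2) 2 == 2 then
      match search sol n code (y.set (k / 2) 0) with
      | none => none
      | some code' => search sol n code' (y.set (k / 2) 1)
    else none

/-- A partial assignment agrees with values. -/
def Agrees (y : List ℕ) (Y : ℕ → ℕ) : Prop := y.length = 57 ∧ ∀ c < 57, y.getD c 2 = 2 ∨ y.getD c 2 = Y c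

theorem sum_bounds {Y : ℕ → ℕ} (hY : ∀ c, Y c ≤ 1) {y : List ℕ} (hy : Agrees y Y) (f : ℕ → ℤ) (n : ℕ) (hn : n ≤ 57) :
    ((List.range n).map fun c => if y.getD c 2 = 2 then min 0 (f c) else f c * (y.getD c 2 : ℤ)).sum ≤
        ((List.range n).map fun c => f c * (Y c : ℤ)).sum ∧
      ((List.range n).map fun c => f c * (Y c : ℤ)).sum ≤
        ((List.range n).map fun c => if y.getD c 2 = 2 then max 0 (f c) else f c * (y.getD c 2 : ℤ)).sum := by
  induction n with
  | zero => simp
  | succ n ih =>
    obtain ⟨i1, i2⟩ := ih (by omega)
    have hterm : (if y.getD n 2 = 2 then min 0 (f n) else f n * (y.getD n 2 : ℤ)) ≤ f n * (Y n : ℤ) ∧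
        f n * (Y n : ℤ) ≤ (if y.getD n 2 = 2 then max 0 (f n) else f n * (y.getD n 2 : ℤ)) := by
      split_ifs with h
      · rcases Nat.le_one_iff_eq_zero_or_eq_one.mp (hY n) with e | e <;> simp [e]
      · rw [(hy.2 n (by omega)).resolve_left h]
        exact ⟨le_rfl, le_rfl⟩
    simp only [List.range_succ, List.map_append, List.sum_append, List.map_cons, List.map_nil, List.sum_cons,
      List.sum_nil, add_zero]
    exact ⟨add_le_add i1 hterm.1, add_le_add i2 hterm.2⟩

theorem search_sound {sol : Option ℕ} {Y : ℕ → ℕ} (hY : ∀ c, Y c ≤ 1)
    (heq : ∀ r < 43, ((List.range 57).map fun c => rowC rows r c * (Y c : ℤ)).sum = rowC rows r 57) :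
    ∀ (n : ℕ) (code y : List ℕ) (rest : List ℕ), search reps rows sol n code y = some rest → Agrees y Y →
      ∃ T, sol = some T ∧ ∀ c < 57, (Y c = 1 ↔ T.testBit (rep reps c) = true) := by
  intro n
  induction n with
  | zero => intro code y rest h; simp [search] at h
  | succ n ih =>
    intro code y rest h hy
    cases code with
    | nil => simp [search] at h
    | cons k code =>
      rw [search.eq_def] at h
      simp only at h
      split_ifs at h with h1 h2 h3 h4
      · cases sol with
        | none => simp at h
        | some T =>
          simp only at h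
          split_ifs at h with hall
          refine ⟨T, rfl, fun c hc => ?_⟩
          have := List.all_eq_true.mp hall c (List.mem_range.mpr hc)
          rw [beq_iff_eq] at this
          rcases hy.2 c hc with e | e
          · rw [e] at this; split_ifs at this <;> omega
          · rw [e] at this
            split_ifs at this with ht <;> simp [this, ht]
      · simp only [bad, Bool.and_eq_true, Bool.or_eq_true, decide_eq_true_eq] at h3
        obtain ⟨l, u⟩ := sum_bounds hY hy (rowC rows (k / 2)) 57 le_rfl
        rw [heq _ h3.1] at l u
        rcases h3.2 with hb | hb <;> omega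
      · simp only [Bool.and_eq_true, decide_eq_true_eq, beq_iff_eq] at h4
        cases hs : search reps rows sol n code (y.set (k / 2) 0) with
        | none => rw [hs] at h; simp at h
        | some code' =>
          rw [hs] at h
          simp only at h
          have hset : ∀ v, Y (k / 2) = v → Agrees (y.set (k / 2) v) Y := fun v hv =>
            ⟨by simp [hy.1], fun c hc => by
              by_cases e : c = k / 2
              · subst e
                exact Or.inr (by simp [List.getD_eq_getElem?_getD, hy.1, hc, hv])
              · have : (y.set (k / 2) v).getD c 2 = y.getD c 2 := by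
                  simp [List.getD_eq_getElem?_getD, List.getElem?_set_ne (Ne.symm e)]
                rw [this]; exact hy.2 c hc⟩
          rcases Nat.le_one_iff_eq_zero_or_eq_one.mp (hY (k / 2)) with e | e
          · exact ih _ _ _ hs (hset 0 e)
          · exact ih _ _ _ h (hset 1 e)

theorem countP_sum (Y : ℕ → ℤ) (f : ℕ → ℕ) : ∀ l : List ℕ, (∀ x ∈ l, f x < 57) →
    ((List.range 57).map fun c => ((l.countP fun x => f x == c : ℕ) : ℤ) * Y c).sum = (l.map fun x => Y (f x)).sum
  | [], _ => by simp
  | a :: l, h => by
    have ih := countP_sum Y f l fun x hx => h x (List.mem_cons_of_mem _ hx)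
    have ha := h a (List.mem_cons_self ..)
    have e : ((List.range 57).map fun c => if f a = c then Y c else 0).sum = Y (f a) := by
      rw [← List.sum_toFinset _ List.nodup_range, List.toFinset_range]
      simp [ha]
    simp only [List.countP_cons, Nat.cast_add, add_mul, List.map_cons, List.sum_cons]
    rw [List.sum_map_add, ih, ← e, add_comm]
    congr 2
    refine List.map_congr_left fun c _ => ?_
    by_cases hc : f a = c <;> simp [hc]

/-- The conclusion of the search. -/
theorem invariant_set {code : List ℕ} {sol : Option ℕ} (hlab : G.labOK lab ex reps = true)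
    (hrows : G.rowsOK lab reps rows = true)
    (hcode : (search reps rows sol 64 code (List.replicate 57 2)).isSome = true) (T : Set I)
    (heq : ∀ z, (({x | G.Near z x} ∩ T).ncard : ℤ) = 7 * (({z} ∩ T : Set I).ncard : ℤ) + 3)
    (hA : ∀ i, i ∈ T → G.act (wM fiveA) i ∈ T) (hB : ∀ i, i ∈ T → G.act (wM fiveB) i ∈ T) :
    ∃ S, sol = some S ∧ ∀ i : I, i ∈ T → S.testBit (rep reps (getA lab i.val)) = true ∧
      ∀ j : I, S.testBit (rep reps (getA lab j.val)) = true → j ∈ T := by
  classical
  simp only [labOK, Bool.and_eq_true, decide_eq_true_eq, List.all_eq_true, List.mem_range, beq_iff_eq] at hlab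
  obtain ⟨⟨⟨la, lb⟩, hrep⟩, hobj⟩ := hlab
  have inv : ∀ (w : List ℕ), LettersH w → (∀ i, i ∈ T → G.act (wM w) i ∈ T) → ∀ n i,
      (G.act (wM (List.replicate n w).flatten) i ∈ T ↔ i ∈ T) := by
    intro w hw hT n i
    have hiff : ∀ i, G.act (wM w) i ∈ T ↔ i ∈ T := by
      intro i
      refine ⟨fun h => ?_, hT i⟩
      have himg : G.act (wM w) '' T = T := Set.eq_of_subset_of_ncard_le (Set.image_subset_iff.mpr hT)
        (by rw [Set.ncard_image_of_injective _ (G.act (wM w)).injective])
      rw [← himg] at h
      exact (G.act (wM w)).injective.mem_set_image.mp h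
    rw [(wM_pow hw n).2]
    induction n generalizing i with
    | zero => simp
    | succ n ih => rw [pow_succ, map_mul, Equiv.Perm.mul_apply]; exact (ih _).trans (hiff _)
  let Y : ℕ → ℕ := fun c => if Fin.ofNat 1365 (rep reps c) ∈ T then 1 else 0
  have hY : ∀ c, Y c ≤ 1 := fun c => by simp only [Y]; split_ifs <;> omega
  have key : ∀ i : I, i ∈ T ↔ Y (getA lab i.val) = 1 := by
    intro i
    obtain ⟨hl, e⟩ := hobj i.val i.isLt
    have ha := (wM_pow la (getA ex i.val / 5)).1
    have hb := (wM_pow lb (getA ex i.val % 5)).1
    have hi : G.act (wM (expW ex i.val)) (Fin.ofNat 1365 (rep reps (getA lab i.val))) = i :=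
      Fin.ext (by
        rw [G.follow_tab (w := expW ex i.val) (ha.append hb)]
        simp only [Fin.val_ofNat, Nat.mod_eq_of_lt (hrep _ hl).1.1]
        exact e)
    have : i ∈ T ↔ (Fin.ofNat 1365 (rep reps (getA lab i.val)) : I) ∈ T := by
      conv_lhs => rw [← hi]
      rw [expW, wM_append ha hb, map_mul, Equiv.Perm.mul_apply, inv _ lb hB, inv _ la hA]
    simp only [Y]
    split_ifs with h
    · exact this.trans (iff_of_true h rfl)
    · exact this.trans (iff_of_false h (by decide))
  have hsum : ∀ r < 43, ((List.range 57).map fun c => rowC rows r c * (Y c : ℤ)).sum = rowC rows r 57 := by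
    intro r hr
    have hr' := List.all_eq_true.mp hrows r (List.mem_range.mpr hr)
    simp only [Bool.and_eq_true, List.all_eq_true, List.mem_range, beq_iff_eq] at hr'
    obtain ⟨hcc, hrhs⟩ := hr'
    have hc' : ∀ c < 57, ∑ j ∈ Finset.range 57, rowC rows r (58 + j) * G.coefA lab reps j c = rowC rows r c := by
      intro c hc
      rw [← hcc c hc, ← List.toFinset_range, List.sum_toFinset _ List.nodup_range]
      congr 1
      refine List.map_congr_left fun j hj => ?_
      rw [List.mem_range] at hj
      simp [List.getD_eq_getElem?_getD, hj, hc]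
    have heqn : ∀ j < 57, ((List.range 57).map fun c => G.coefA lab reps j c * (Y c : ℤ)).sum = 3 := by
      intro j hj
      obtain ⟨⟨hlt, hlj⟩, hnd⟩ := hrep j hj
      simp only [coefA, sub_mul]
      rw [show ((List.range 57).map fun c =>
          ((((G.nearL (rep reps j)).countP fun x => getA lab x == c) : ℕ) : ℤ) * (Y c : ℤ) -
            (if j = c then (7 : ℤ) else 0) * (Y c : ℤ)).sum =
        ((List.range 57).map fun c =>
          ((((G.nearL (rep reps j)).countP fun x => getA lab x == c) : ℕ) : ℤ) * (Y c : ℤ)).sum -
        ((List.range 57).map fun c => (if j = c then (7 : ℤ) else 0) * (Y c : ℤ)).sum by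
          simp only [← List.sum_toFinset _ List.nodup_range, Finset.sum_sub_distrib]]
      rw [countP_sum (fun c => (Y c : ℤ)) (getA lab) _ (fun x hx => (hobj x (G.nearL_lt (i := ⟨_, hlt⟩) hx)).1)]
      have e7 : ((List.range 57).map fun c => (if j = c then (7 : ℤ) else 0) * (Y c : ℤ)).sum = 7 * (Y j : ℤ) := by
        rw [← List.sum_toFinset _ List.nodup_range, List.toFinset_range]
        simp [ite_mul, hj]
      rw [e7]
      have h := heq ⟨_, hlt⟩
      have e1 : ((({⟨_, hlt⟩} : Set I) ∩ T).ncard : ℤ) = (Y j : ℤ) := by
        have hk := key ⟨_, hlt⟩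
        rw [show getA lab (rep reps j) = j from hlj] at hk
        by_cases hT : (⟨_, hlt⟩ : I) ∈ T
        · rw [hk.mp hT, Set.inter_eq_left.mpr (Set.singleton_subset_iff.mpr hT), Set.ncard_singleton]
        · have : Y j = 0 := by have := hY j; have : Y j ≠ 1 := fun e => hT (hk.mpr e); omega
          rw [this, Set.singleton_inter_eq_empty.mpr hT, Set.ncard_empty]
      have e2 : ((({x | G.Near ⟨_, hlt⟩ x} ∩ T).ncard : ℕ) : ℤ) =
          ((G.nearL (rep reps j)).map fun x => (Y (getA lab x) : ℤ)).sum := by
        rw [← List.sum_toFinset _ hnd]
        rw [show ∑ x ∈ (G.nearL (rep reps j)).toFinset, (Y (getA lab x) : ℤ) =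
          ((((G.nearL (rep reps j)).toFinset.filter fun x => Y (getA lab x) = 1).card : ℕ) : ℤ) by
            rw [Finset.card_filter, Nat.cast_sum]
            refine Finset.sum_congr rfl fun x _ => ?_
            have := hY (getA lab x)
            split_ifs with h1 <;> omega]
        congr 1
        rw [← Set.ncard_coe_finset, ← Set.ncard_image_of_injective _ Fin.val_injective]
        congr 1
        ext x
        simp only [Set.mem_image, Set.mem_inter_iff, Set.mem_ofPred_eq, Finset.coe_filter, List.mem_toFinset,
          G.near_iff, key]
        exact ⟨by rintro ⟨i, ⟨h1, h2⟩, rfl⟩; exact ⟨h1, h2⟩,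
          fun ⟨h1, h2⟩ => ⟨⟨x, G.nearL_lt (i := ⟨_, hlt⟩) h1⟩, ⟨h1, h2⟩, rfl⟩⟩
      rw [e1, e2] at h
      linarith
    have swap : ((List.range 57).map fun c => rowC rows r c * (Y c : ℤ)).sum =
        ((List.range 57).map fun j => rowC rows r (58 + j) *
          ((List.range 57).map fun c => G.coefA lab reps j c * (Y c : ℤ)).sum).sum := by
      simp only [← List.sum_toFinset _ List.nodup_range, List.toFinset_range, Finset.mul_sum]
      rw [Finset.sum_comm]
      refine Finset.sum_congr rfl fun c hc => ?_
      rw [Finset.mem_range] at hc
      have h' := hc' c hc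
      rw [← h', Finset.sum_mul]
      exact Finset.sum_congr rfl fun j _ => by ring
    rw [swap, ← hrhs]
    congr 1
    exact List.map_congr_left fun j hj => by rw [heqn j (List.mem_range.mp hj)]
  obtain ⟨rest, hrest⟩ := Option.isSome_iff_exists.mp hcode
  obtain ⟨S, hS, hall⟩ := search_sound reps rows hY hsum 64 _ _ _ hrest
    ⟨List.length_replicate, fun c hc => Or.inl (by
      rw [List.getD_eq_getElem _ _ (by rw [List.length_replicate]; exact hc), List.getElem_replicate])⟩
  exact ⟨S, hS, fun i hi => ⟨(hall _ (hobj i.val i.isLt).1).mp ((key i).mp hi),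
    fun j hj => (key j).mpr ((hall _ (hobj j.val j.isLt).1).mpr hj)⟩⟩

end Geo

end CfsgLib.SuzRankThree
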